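import Cfsg.Agent.Lib.Lie.OddInvolution.SignTorus
import Cfsg.Agent.Lib.Known.ChevFixed
import Cfsg.Agent.Lib.Lie.Rel.Facts

/-!
# Every involution of an adjoint group with trivial centre is conjugate to a sign element of a split torus
-/

set_option autoImplicit false
set_option maxHeartbeats 800000

namespace CfsgLib.Lie.OddInvolution

open Cfsg.Lie (ChevalleyDatum)
open CfsgLib.Lie.Chev
open CfsgLib.Known.ChevFixed (groupMap groupMap_xe groupMap_injective fieldAut_xe fieldAut_torusHom)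

variable {D : ChevalleyDatum} {X : Aux} (C : Cert D X) {F K : Type*} [Field F] [Field K]

section Maps

variable (f : ↥(D.group F) →* ↥(D.group K)) (ι : F →+* K)
    (hf : ∀ r t, f ((chevRel C F).xe r t) = (chevRel C K).xe r (ι t))
include hf

theorem map_ne (r : ℕ) (c : F) : f ((chevRel C F).ne r c) = (chevRel C K).ne r (ι c) := by
  simp only [Rel.ne, neOf, map_mul, hf, map_neg, map_inv₀]

theorem map_he (r : ℕ) (c : F) : f ((chevRel C F).he r c) = (chevRel C K).he r (ι c) := by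
  show f ((chevRel C F).ne r c * (chevRel C F).ne r (-1)) = (chevRel C K).ne r (ι c) * (chevRel C K).ne r (-1)
  rw [map_mul, map_ne C f ι hf, map_ne C f ι hf, map_neg, map_one]

theorem map_mem_HS {g : ↥(D.group F)} (hg : g ∈ (chevRel C F).HS) : f g ∈ (chevRel C K).HS := by
  suffices h : (chevRel C F).HS ≤ Subgroup.comap f (chevRel C K).HS from h hg
  refine (Subgroup.closure_le _).2 ?_
  rintro _ ⟨i, c, hc, rfl⟩
  show f _ ∈ (chevRel C K).HS
  rw [map_he C f ι hf]
  exact (chevRel C K).he_mem_HS i ((map_ne_zero ι).2 hc)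

theorem map_mem_NS {g : ↥(D.group F)} (hg : g ∈ (chevRel C F).NS) : f g ∈ (chevRel C K).NS := by
  suffices h : (chevRel C F).NS ≤ Subgroup.comap f (chevRel C K).NS from h hg
  refine sup_le (fun x hx => (chevRel C K).HS_le_NS (map_mem_HS C f ι hf hx)) ((Subgroup.closure_le _).2 ?_)
  rintro _ ⟨i, rfl⟩
  show f _ ∈ (chevRel C K).NS
  rw [map_ne C f ι hf, map_one]
  exact (chevRel C K).ne_simple_mem_NS i one_ne_zero

/-- The image of a monomial element has the same permutation and the image of the character. -/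
theorem map_isMon {n : (chevRel C F).NS} {a : Fin D.nroots → F}
    (ha : (chevRel C F).IsMon n ((chevRel C F).nsPerm n) a) {m : (chevRel C K).NS} (hm : (m : ↥(D.group K)) = f n)
    {b : Fin D.nroots → K} (hb : (chevRel C K).IsMon m ((chevRel C K).nsPerm m) b) (r : Fin D.nroots) :
    (chevRel C K).nsPerm m r = (chevRel C F).nsPerm n r ∧ b r = ι (a r) := by
  have h := congrArg f ((ha r).2.2.2 1)
  rw [map_mul, map_mul, map_inv, hf, hf, map_one, ← hm, (hb r).2.2.2 1, mul_one, mul_one] at h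
  have e := (chevRel C K).xe_inj_root (hb r).1 h
  rw [e] at h
  exact ⟨e, (chevRel C K).xe_inj_param h⟩

theorem map_nsPerm {n : (chevRel C F).NS} {m : (chevRel C K).NS} (hm : (m : ↥(D.group K)) = f n) :
    (chevRel C K).nsPerm m = (chevRel C F).nsPerm n := by
  obtain ⟨a, ha⟩ := (chevRel C F).isMon_nsPerm n
  obtain ⟨b, hb⟩ := (chevRel C K).isMon_nsPerm m
  exact Equiv.ext fun r => (map_isMon C f ι hf ha hm hb r).1

end Maps

theorem compat_fieldAut (σ : K ≃+* K) (hσ : ∀ a, σ (σ a) = a) :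
    Compat (chevRel C K) (fieldAut D σ : ↥(D.group K) →* ↥(D.group K)) where
  invol g := Subtype.ext (Units.ext (Matrix.ext fun a b => hσ _))
  map_UP g hg := CfsgLib.Known.ChevFixed.fieldAut_mem_US C σ _ hg
  map_HS g hg := CfsgLib.Known.ChevFixed.fieldAut_mem_HS C σ hg
  map_NS n := ⟨⟨fieldAut D σ n, map_mem_NS C (fieldAut D σ : ↥(D.group K) →* ↥(D.group K)) σ.toRingHom (fieldAut_xe C σ) n.2⟩, rfl,
    map_nsPerm C (fieldAut D σ : ↥(D.group K) →* ↥(D.group K)) σ.toRingHom (fieldAut_xe C σ) rfl⟩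

theorem compat_id : Compat (chevRel C F) (MonoidHom.id ↥(D.group F)) where
  invol _ := rfl
  map_UP _ hg := hg
  map_HS _ hg := hg
  map_NS n := ⟨n, rfl, rfl⟩

include C in
theorem odd_orderOf_UP [Fintype F] (hF : Odd (Fintype.card F)) (v : ↥(D.group F)) (hv : v ∈ (chevRel C F).UP) :
    Odd (orderOf v) := by
  have h1 : orderOf v ∣ Nat.card ↥(chevRel C F).UP := by
    rw [← Subgroup.orderOf_mk v hv]; exact orderOf_dvd_natCard _
  rw [← Nat.card_congr (UPEquiv C F), Nat.card_fun, Nat.card_eq_fintype_card (α := F)] at h1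
  exact hF.pow.of_dvd_nat h1

theorem ringChar_ne_two [Fintype F] (hF : Odd (Fintype.card F)) : ringChar F ≠ 2 := fun h => by
  have := FiniteField.even_card_iff_char_two.1 h
  rw [Nat.odd_iff] at hF
  omega

theorem two_ne_zero_of_odd [Fintype F] (hF : Odd (Fintype.card F)) : (2 : F) ≠ 0 :=
  Ring.two_ne_zero (ringChar_ne_two hF)

theorem mem_range_of_pow_eq [Fintype F] (ι : F →+* K) {a : K} (ha : a ^ Fintype.card F = a) : a ∈ ι.range := by
  classical
  obtain ⟨f, hf⟩ : ∃ f : Polynomial K, f = Polynomial.X ^ Fintype.card F - Polynomial.X := ⟨_, rfl⟩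
  have hne : f ≠ 0 := hf ▸ FiniteField.X_pow_card_sub_X_ne_zero K Fintype.one_lt_card
  have hsub : Finset.univ.image ι ⊆ f.roots.toFinset := by
    intro x hx
    obtain ⟨y, -, rfl⟩ := Finset.mem_image.1 hx
    rw [Multiset.mem_toFinset, Polynomial.mem_roots hne, hf]
    simp [Polynomial.IsRoot, ← map_pow, FiniteField.pow_card]
  have hle : f.roots.toFinset.card ≤ (Finset.univ.image ι).card := by
    rw [Finset.card_image_of_injective _ ι.injective, Finset.card_univ]
    refine (Multiset.toFinset_card_le _).trans ((Polynomial.card_roots' f).trans ?_)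
    rw [hf, FiniteField.X_pow_card_sub_X_natDegree_eq K Fintype.one_lt_card]
  have : a ∈ Finset.univ.image ι := by
    rw [Finset.eq_of_subset_of_card_le hsub hle, Multiset.mem_toFinset, Polynomial.mem_roots hne, hf]
    simp [Polynomial.IsRoot, ha]
  obtain ⟨y, -, rfl⟩ := Finset.mem_image.1 this
  exact ⟨y, rfl⟩

/-- A quadratic extension with the Frobenius of the base field. -/
theorem exists_quadratic_frobenius [Fintype F] :
    ∃ (L : Type) (_ : Field L) (_ : Fintype L) (ι : F →+* L) (σ : L ≃+* L),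
      Fintype.card L = Fintype.card F ^ 2 ∧ (∀ a, σ a = a ^ Fintype.card F) ∧ (∀ a, σ (σ a) = a) ∧
        ∀ a : L, σ a = a ↔ a ∈ ι.range := by
  classical
  obtain ⟨p, hc⟩ := CharP.exists F
  have := hc
  obtain ⟨f, hp', hqp⟩ := FiniteField.card F p
  haveI : Fact p.Prime := ⟨hp'⟩
  letI : Algebra (ZMod p) F := ZMod.algebra F p
  let L := GaloisField p (2 * (f : ℕ))
  letI : Fintype L := Fintype.ofFinite _
  have hL : Fintype.card L = Fintype.card F ^ 2 := by
    rw [← Nat.card_eq_fintype_card, GaloisField.card p _ (by have := f.pos; omega), hqp, ← pow_mul, mul_comm 2]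
  have hdim : Module.finrank (ZMod p) F = f :=
    Nat.pow_right_injective hp'.two_le (by
      have h := Module.card_eq_pow_finrank (K := ZMod p) (V := F)
      rw [ZMod.card, hqp] at h
      exact h.symm)
  obtain ⟨ι⟩ := FiniteField.nonempty_algHom_of_finrank_dvd (F := ZMod p) (K := F) (L := L) (by
    rw [hdim, GaloisField.finrank p (by have := f.pos; omega)]; exact dvd_mul_left _ _)
  have hb : Function.Bijective (iterateFrobenius L p f) :=
    Finite.injective_iff_bijective.1 (RingHom.injective _)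
  obtain ⟨σ, hσ⟩ : ∃ σ : L ≃+* L, ∀ a, σ a = a ^ Fintype.card F :=
    ⟨RingEquiv.ofBijective _ hb, fun b => by rw [RingEquiv.ofBijective_apply, iterateFrobenius_def, ← hqp]⟩
  refine ⟨L, inferInstance, inferInstance, ι.toRingHom, σ, hL, hσ, fun a => ?_, fun a => ⟨fun h => ?_, ?_⟩⟩
  · rw [hσ, hσ, ← pow_mul, ← pow_two, ← hL, FiniteField.pow_card]
  · exact mem_range_of_pow_eq _ ((hσ a).symm.trans h)
  · rintro ⟨y, rfl⟩
    rw [hσ, ← map_pow, FiniteField.pow_card]

variable [Fintype K]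

/-- Every norm from the quadratic extension is attained twice, and every element of unit norm is a conjugate quotient. -/
theorem norm_facts {q : ℕ} (hq : 1 < q) (hK : Fintype.card K = q ^ 2) :
    (∀ c : K, c ≠ 0 → c ^ q = c → ∃ x y, x ≠ y ∧ x * x ^ q = c ∧ y * y ^ q = c) ∧
      ∀ c : Kˣ, c * c ^ q = 1 → ∃ z : Kˣ, z ^ (q - 1) = c := by
  classical
  obtain ⟨g, hg⟩ := IsCyclic.exists_generator (α := Kˣ)
  have hord : orderOf g = (q - 1) * (q + 1) := by
    rw [orderOf_eq_card_of_forall_mem_zpowers hg, Nat.card_units, Nat.card_eq_fintype_card, hK, mul_comm,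
      ← Nat.sq_sub_sq, one_pow]
  refine ⟨fun c hc hcq => ?_, fun c hc => ?_⟩
  · obtain ⟨u, rfl⟩ : ∃ u : Kˣ, (u : K) = c := ⟨Units.mk0 c hc, rfl⟩
    obtain ⟨k, rfl⟩ : ∃ k : ℤ, g ^ k = u := Subgroup.mem_zpowers_iff.1 (hg u)
    have h1 : (g ^ k) ^ q = g ^ k := Units.ext (by rw [Units.val_pow_eq_pow_val]; exact hcq)
    rw [← zpow_natCast, ← zpow_mul, zpow_eq_zpow_iff_modEq, hord, Nat.cast_mul, Int.modEq_iff_dvd] at h1
    obtain ⟨m, hm⟩ := h1
    obtain ⟨w, rfl⟩ : ((q + 1 : ℕ) : ℤ) ∣ k := by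
      refine ⟨-m, mul_left_cancel₀ (a := ((q - 1 : ℕ) : ℤ)) (by omega) ?_⟩
      rw [Nat.cast_sub hq.le]; push_cast at hm ⊢; rw [Nat.cast_sub hq.le] at hm; push_cast at hm; linarith
    have hx : ∀ j : ℤ, ((g ^ (w + ((q - 1 : ℕ) : ℤ) * j) : Kˣ) : K) * ((g ^ (w + ((q - 1 : ℕ) : ℤ) * j) : Kˣ) : K) ^ q =
        ((g ^ (((q + 1 : ℕ) : ℤ) * w) : Kˣ) : K) := by
      intro j
      rw [← Units.val_pow_eq_pow_val, ← Units.val_mul, ← zpow_natCast, ← zpow_mul, ← zpow_add]
      refine congrArg Units.val (zpow_eq_zpow_iff_modEq.2 ?_)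
      rw [hord, Int.modEq_iff_dvd]
      exact ⟨-j, by push_cast; ring⟩
    refine ⟨_, _, ?_, hx 0, hx 1⟩
    intro e
    have e' := zpow_eq_zpow_iff_modEq.1 (Units.ext e)
    rw [hord, Int.modEq_iff_dvd] at e'
    rw [show w + ((q - 1 : ℕ) : ℤ) * 1 - (w + ((q - 1 : ℕ) : ℤ) * 0) = ((q - 1 : ℕ) : ℤ) by ring,
      Int.natCast_dvd_natCast] at e'
    have := Nat.le_of_dvd (by omega) e'
    nlinarith [Nat.sub_pos_of_lt hq]
  · obtain ⟨k, rfl⟩ : ∃ k : ℤ, g ^ k = c := Subgroup.mem_zpowers_iff.1 (hg c)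
    rw [← zpow_natCast, ← zpow_mul, ← zpow_add, ← orderOf_dvd_iff_zpow_eq_one, hord, Nat.cast_mul] at hc
    obtain ⟨m, hm⟩ := hc
    refine ⟨g ^ m, ?_⟩
    rw [← zpow_natCast, ← zpow_mul]
    refine congrArg (g ^ ·) (mul_left_cancel₀ (a := ((q + 1 : ℕ) : ℤ)) (by omega) ?_)
    push_cast at hm ⊢
    linarith

theorem isMon_one_sgn :
    (chevRel C K).IsMon 1 1 fun r => (sgn ((fun _ : Fin D.nroots => (0 : ZMod 2)) r) : K) := by
  simpa [sgn] using (chevRel C K).isMon_one

/-- Every involution is conjugate to a sign element of the split torus. -/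
theorem exists_conj_isT [Fintype F] (hF : Odd (Fintype.card F)) (hC : CartanOK D)
    (hker : ∀ (L : Type) (_ : Field L) (_ : Fintype L), TorusInj (chevRel C L))
    (hkerF : TorusInj (chevRel C F)) (u : ↥(D.group F)) (hu : u * u = 1) :
    ∃ v h, IsT (chevRel C F) v h ∧ IsConj u h := by
  classical
  obtain ⟨L, iL, fL, ι, σ, hL, hσ, hσσ, hfix⟩ := exists_quadratic_frobenius (F := F)
  have hq : 1 < Fintype.card F := Fintype.one_lt_card
  have h2F := two_ne_zero_of_odd hF
  have hLodd : Odd (Fintype.card L) := hL ▸ hF.pow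
  have h2 := two_ne_zero_of_odd hLodd
  obtain ⟨hnorm, hilb⟩ := norm_facts (K := L) hq hL
  have hkL := hker L iL fL
  obtain ⟨J, hJ⟩ : ∃ J : ↥(D.group F) →* ↥(D.group L), J = groupMap D ι := ⟨_, rfl⟩
  have hJinj : Function.Injective J := hJ ▸ groupMap_injective ι
  have hJx : ∀ r t, J ((chevRel C F).xe r t) = (chevRel C L).xe r (ι t) := hJ ▸ groupMap_xe C ι
  obtain ⟨φ, hφ⟩ : ∃ φ : ↥(D.group L) →* ↥(D.group L), φ = fieldAut D σ := ⟨_, rfl⟩
  have hφx : ∀ r t, φ ((chevRel C L).xe r t) = (chevRel C L).xe r (σ t) := hφ ▸ fieldAut_xe C σ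
  have hcφ : Compat (chevRel C L) φ := hφ ▸ compat_fieldAut C σ hσσ
  have hφJ : ∀ g, φ (J g) = J g := fun g => by
    rw [hφ, hJ]
    exact Subtype.ext (Units.ext (Matrix.ext fun a b => (hfix _).2 ⟨_, rfl⟩))
  -- the first phase
  obtain ⟨y, -, n, hn⟩ := exists_twisted_conj_NS (chevRel C F) (compat_id C) (odd_orderOf_UP C hF)
    (one_mem (chevRel C F).HS) rfl (Commute.one_right u) (g := u) hu
  simp only [MonoidHom.id_apply] at hn
  obtain ⟨m, hm⟩ : ∃ m : (chevRel C L).NS, (m : ↥(D.group L)) = J n := ⟨⟨_, map_mem_NS C J ι hJx n.2⟩, rfl⟩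
  have S₁ : Setup (chevRel C L) (MonoidHom.id _) (RingHom.id L) (fun c => c ∈ ι.range) :=
    { compat := compat_id C
      map_xe := fun _ _ => rfl
      good_neg := fun c hc => neg_mem hc
      norm := by
        rintro c hc ⟨d, rfl⟩
        obtain ⟨x, hx⟩ : IsSquare (ι d) := by
          have hd : d ≠ 0 := fun e => hc (by rw [e, map_zero])
          rw [FiniteField.isSquare_iff (ringChar_ne_two hLodd) hc]
          obtain ⟨j, hj⟩ := hF
          have e : Fintype.card L / 2 = (Fintype.card F - 1) * (j + 1) := by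
            rw [hL, hj, show 2 * j + 1 - 1 = 2 * j by omega,
              show (2 * j + 1) ^ 2 = 2 * (2 * j * (j + 1)) + 1 by ring]
            omega
          rw [e, pow_mul, ← map_pow, FiniteField.pow_card_sub_one_eq_one d hd, map_one, one_pow]
        have hx0 : x ≠ 0 := fun e => hc (by rw [hx, e, mul_zero])
        refine ⟨x, -x, fun e => hx0 ?_, hx.symm, by simp [hx]⟩
        rcases mul_eq_zero.1 (show (2 : L) * x = 0 by linear_combination e) with h | h
        · exact absurd h h2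
        · exact h }
  have hmm : (m : ↥(D.group L)) * m = 1 := by
    rw [hm, ← map_mul, ← map_one J, ← hn]
    refine congrArg J ?_
    calc _ = y * (u * u) * y⁻¹ := by group
      _ = 1 := by rw [hu, mul_one, mul_inv_cancel]
  obtain ⟨y₁, -, h, hh, hy₁⟩ := exists_twisted_conj_HS (chevRel C L) hC h2 S₁ _ m 1 (fun _ => 0)
    (one_mem _) rfl (fun r => by simp) (isMon_one_sgn C) le_rfl hmm (Commute.one_right _) (fun b hb r _ => by
      obtain ⟨a, ha⟩ := (chevRel C F).isMon_nsPerm n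
      exact ⟨_, ((map_isMon C J ι hJx ha hm hb r).2).symm⟩)
  obtain ⟨Y, hY⟩ : ∃ Y, Y = y₁ * J y := ⟨_, rfl⟩
  simp only [MonoidHom.id_apply] at hy₁
  have hYu : Y * J u * Y⁻¹ = h := by
    rw [← hy₁, hm, ← hn, hY, map_mul, map_mul, map_inv]; group
  have hhh : h * h = 1 := by
    rw [← hYu]
    calc _ = Y * (J u * J u) * Y⁻¹ := by group
      _ = 1 := by rw [← map_mul, hu, map_one, mul_one, mul_inv_cancel]
  obtain ⟨v, hv⟩ := exists_isT_of_mem (chevRel C L) hkL hh hhh
  obtain ⟨t, ht⟩ := exists_isT (chevRel C F) hC v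
  refine ⟨v, t, ht, ?_⟩
  have hJt : J t = h := by
    refine isT_unique (chevRel C L) hC h2 hkL ⟨map_mem_HS C J ι hJx ht.1, by rw [← map_mul, ht.2.1, map_one], ?_⟩ hv
    obtain ⟨b, hb⟩ := (chevRel C L).isMon_of_mem_HS (map_mem_HS C J ι hJx ht.1)
    refine (congrArg ((chevRel C L).IsMon _ 1) (funext fun r => ?_)).mp hb
    have e := congrArg J ((ht.2.2 r).2.2.2 1)
    rw [map_mul, map_mul, map_inv, hJx, hJx, map_one, (hb r).2.2.2 1, Equiv.Perm.one_apply, mul_one] at e
    rw [(chevRel C L).xe_inj_param e]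
    simp only [sgn]
    split_ifs <;> simp
  -- the second phase
  have hφh : φ h = h := hJt ▸ hφJ t
  obtain ⟨a, ha⟩ : ∃ a, a = Y * (φ Y)⁻¹ := ⟨_, rfl⟩
  have hah : Commute a h := by
    have e : φ Y * J u * (φ Y)⁻¹ = h := by
      conv_rhs => rw [← hφh, ← hYu, map_mul, map_mul, map_inv, hφJ]
    show a * h = h * a
    conv_lhs => rw [← e]
    conv_rhs => rw [← hYu]
    rw [ha]; group
  have haa : a * φ a = 1 := by rw [ha, map_mul, map_inv, hcφ.invol]; group
  obtain ⟨y₂, hy₂, n₂, hn₂⟩ := exists_twisted_conj_NS (chevRel C L) hcφ (odd_orderOf_UP C hLodd) hh hφh hah haa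
  have hn₂n : (n₂ : ↥(D.group L)) * φ n₂ = 1 := by
    rw [← hn₂, map_mul, map_mul, map_inv, hcφ.invol]
    calc _ = y₂ * (a * φ a) * y₂⁻¹ := by group
      _ = 1 := by rw [haa, mul_one, mul_inv_cancel]
  have hn₂h : Commute (n₂ : ↥(D.group L)) h := by
    rw [← hn₂]
    refine (hy₂.mul_left hah).mul_left (Commute.inv_left ?_)
    have e := congrArg φ hy₂.eq
    rwa [map_mul, map_mul, hφh] at e
  have S₂ : Setup (chevRel C L) φ σ.toRingHom (fun c => σ c = c) :=
    { compat := hcφ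
      map_xe := hφx
      good_neg := fun c hc => by rw [map_neg, hc]
      norm := fun c hc hcf => by
        obtain ⟨x, y, hxy, hx, hy⟩ := hnorm c hc ((hσ c).symm.trans hcf)
        exact ⟨x, y, hxy, (by rw [RingEquiv.toRingHom_eq_coe, RingEquiv.coe_toRingHom, hσ]; exact hx),
          (by rw [RingEquiv.toRingHom_eq_coe, RingEquiv.coe_toRingHom, hσ]; exact hy)⟩ }
  obtain ⟨y₃, hy₃, h', hh', e₃⟩ := exists_twisted_conj_HS (chevRel C L) hC h2 S₂ _ n₂ h (par X v) hh hφh
    (plin_par _ v) hv.2.2 le_rfl hn₂n hn₂h (fun b hb r hr => by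
      have hneg := hb ((chevRel C L).negF r)
      have e1 := congrArg φ ((hb r).2.2.2 1)
      rw [map_mul, map_mul, map_inv, hφx, hφx, map_one, eq_inv_of_mul_eq_one_right hn₂n, inv_inv, mul_one] at e1
      have e2 := hneg.2.2.2 (b r)
      rw [(hb r).2.1, inv_mul_cancel₀ (hb r).1, (hb r).2.2.1, hr, (chevRel C L).negF_negF] at e2
      rw [← e2] at e1
      refine (chevRel C L).xe_inj_param (r := (chevRel C L).negF r) ?_
      rw [hr] at e1
      rw [← e1]; group)
  obtain ⟨W, hW⟩ : ∃ W, W = y₃ * y₂ * Y := ⟨_, rfl⟩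
  have hWW : W * (φ W)⁻¹ = h' := by
    rw [← e₃, ← hn₂, ha, hW, map_mul, map_mul]; group
  obtain ⟨c, hc⟩ := (chevRel C L).torusHom_surjective ⟨h', hh'⟩
  have hc' : (((chevRel C L).torusHom c : (chevRel C L).HS) : ↥(D.group L)) = h' := congrArg Subtype.val hc
  have hcc : c * (fun i => Units.map (σ : L →* L) (c i)) = 1 := by
    refine hkL _ (Subtype.ext ?_)
    rw [map_mul, Subgroup.coe_mul, ← fieldAut_torusHom C σ, hc']
    show h' * fieldAut D σ h' = 1
    rw [show fieldAut D σ h' = φ h' by rw [hφ]; rfl, ← hWW, map_mul, map_inv, hcφ.invol]; group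
  have hzc : ∀ i, ∃ z : Lˣ, z ^ (Fintype.card F - 1) = c i := fun i =>
    hilb (c i) (Units.ext (by simpa [hσ] using congrArg Units.val (congrFun hcc i)))
  choose z hz using hzc
  obtain ⟨Z, hZ⟩ : ∃ Z, Z = (((chevRel C L).torusHom z : (chevRel C L).HS) : ↥(D.group L)) := ⟨_, rfl⟩
  have hφZ : φ Z = Z * h' := by
    rw [hZ, hφ]
    show fieldAut D σ _ = _
    rw [fieldAut_torusHom C σ, ← hc', ← Subgroup.coe_mul, ← map_mul]
    refine congrArg (fun x => (((chevRel C L).torusHom x : (chevRel C L).HS) : ↥(D.group L))) (funext fun i => Units.ext ?_)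
    simp [hσ, ← hz i, ← pow_succ', Nat.sub_add_cancel hq.le]
  have hfixed : φ (Z * W) = Z * W := by
    rw [map_mul, hφZ, ← hWW]; group
  obtain ⟨w, hw⟩ : Z * W ∈ (groupMap D ι).range :=
    CfsgLib.Known.ChevFixed.eq_range_of_fixed C σ ι hfix hkL (by rw [hφ] at hfixed; exact hfixed)
  rw [← hJ] at hw
  refine isConj_iff.2 ⟨w, hJinj ?_⟩
  rw [map_mul, map_mul, map_inv, hw, hJt]
  have e1 : y₃ * y₂ * h * (y₃ * y₂)⁻¹ = h := by
    rw [(hy₃.mul_left hy₂).eq, mul_inv_cancel_right]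
  have e2 : Z * h * Z⁻¹ = h := by
    rw [(chevRel C L).HS_isMulCommutative (hZ ▸ SetLike.coe_mem _) hh, mul_inv_cancel_right]
  calc Z * W * J u * (Z * W)⁻¹ = Z * (y₃ * y₂ * (Y * J u * Y⁻¹) * (y₃ * y₂)⁻¹) * Z⁻¹ := by rw [hW]; group
    _ = h := by rw [hYu, e1, e2]

end CfsgLib.Lie.OddInvolution
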