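import Cfsg.Agent.Lib.Lie.Rel.Poincare

/-!
# Parities of roots and sets of negated simple roots
-/

set_option autoImplicit false

namespace CfsgLib.Lie.OddInvolution

open Cfsg.Lie (ChevalleyDatum)
open CfsgLib.Lie.Chev

variable {D : ChevalleyDatum} {X : Aux} {F : Type*} [Field F] {G : Type*} [Group G] (R : Rel D X F G)

/-- The sign of a parity. -/
def sgn (p : ZMod 2) : F := if p = 0 then 1 else -1

theorem sgn_inj (h2 : (2 : F) ≠ 0) {a b : ZMod 2} (h : (sgn a : F) = sgn b) : a = b := by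
  have hne : (1 : F) ≠ -1 := fun h => h2 (by linear_combination h)
  rcases (by decide : ∀ x : ZMod 2, x = 0 ∨ x = 1) a with rfl | rfl <;>
    rcases (by decide : ∀ x : ZMod 2, x = 0 ∨ x = 1) b with rfl | rfl <;> simp [sgn, eq_comm] at h ⊢ <;>
    first | exact hne h | exact hne h.symm

/-- A parity function additive on roots. -/
def PLin (p : Fin D.nroots → ZMod 2) : Prop :=
  ∀ r, p r = ∑ j : Fin D.rank, (X.coef j (r : ℕ) : ZMod 2) * p (R.sroot j)

theorem plin_comp {p : Fin D.nroots → ZMod 2} (hp : PLin R p) {σ : Equiv.Perm (Fin D.nroots)} (hσ : R.IsLin σ) :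
    PLin R fun r => p (σ r) := by
  intro r
  show p (σ r) = ∑ j : Fin D.rank, (X.coef j (r : ℕ) : ZMod 2) * p (σ (R.sroot j))
  rw [hp (σ r)]
  simp_rw [hσ r, hp (σ (R.sroot _)), Int.cast_sum, Int.cast_mul, Finset.sum_mul, Finset.mul_sum]
  rw [Finset.sum_comm]
  simp only [mul_assoc]

theorem plin_wperm {p : Fin D.nroots → ZMod 2} (hp : PLin R p) (i : Fin D.rank) (r : Fin D.nroots) :
    p (R.wperm i r) = p r - (D.cartan i r : ZMod 2) * p (R.sroot i) := by
  rw [hp (R.wperm i r), hp r]
  have e : ∀ j : Fin D.rank, (X.coef j (R.wperm i r : ℕ) : ZMod 2) * p (R.sroot j) =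
      (X.coef j (r : ℕ) : ZMod 2) * p (R.sroot j) - if j = i then (D.cartan i r : ZMod 2) * p (R.sroot i) else 0 := by
    intro j
    rw [R.wperm_apply, R.cert.coef_w i.2 r.2 j.2]
    by_cases h : j = i
    · subst h; simp [sub_mul]
    · rw [if_neg (fun e => h (Fin.ext e)), if_neg h, sub_zero]
  rw [Finset.sum_congr rfl fun j _ => e j, Finset.sum_sub_distrib, Finset.sum_ite_eq' Finset.univ i fun _ =>
    (D.cartan i r : ZMod 2) * p (R.sroot i), if_pos (Finset.mem_univ _)]

/-- A product of orthogonal simple reflections on coordinates. -/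
theorem coef_prod_nS : ∀ l : List (Fin D.rank), l.Nodup → (∀ i ∈ l, ∀ j ∈ l, i ≠ j → D.cartan i (D.simple j) = 0) →
    ∀ (r : Fin D.nroots) (j : Fin D.rank), X.coef j (R.nsPerm (l.map R.nS).prod r : ℕ) =
      X.coef j (r : ℕ) - if j ∈ l then D.cartan j (r : ℕ) else 0
  | [], _, _, r, j => by simp
  | i :: l, hnd, horth, r, j => by
    obtain ⟨hi, hl⟩ := List.nodup_cons.1 hnd
    have ih := coef_prod_nS l hl fun a ha b hb => horth a (List.mem_cons_of_mem _ ha) b (List.mem_cons_of_mem _ hb)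
    obtain ⟨s, hs⟩ : ∃ s, s = R.nsPerm (l.map R.nS).prod r := ⟨_, rfl⟩
    have hcart : D.cartan i (s : ℕ) = D.cartan i (r : ℕ) := by
      rw [R.cert.cartan_eq s.2 i.2, R.cert.cartan_eq r.2 i.2, Finset.sum_range, Finset.sum_range]
      refine Finset.sum_congr rfl fun k _ => ?_
      rw [hs, ih r k]
      by_cases hk : k ∈ l
      · rw [if_pos hk, horth i List.mem_cons_self k (List.mem_cons_of_mem _ hk) (fun e => hi (e ▸ hk)), mul_zero, mul_zero]
      · rw [if_neg hk, sub_zero]
    rw [List.map_cons, List.prod_cons, map_mul, Equiv.Perm.mul_apply, R.nsPerm_nS, ← hs, R.wperm_apply,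
      R.cert.coef_w i.2 s.2 j.2, hs, ih r j, ← hs]
    by_cases h : j = i
    · subst h
      rw [if_pos rfl, if_neg hi, sub_zero, if_pos List.mem_cons_self, hcart]
    · rw [if_neg (fun e => h (Fin.ext e))]
      simp [h]

/-- The checks on a Cartan matrix used below. -/
structure CartanOK (D : ChevalleyDatum) : Prop where
  odd : ∀ i j : Fin D.rank, i ≠ j → D.cartan i (D.simple j) ≠ 0 →
    (D.cartan i (D.simple j) : ZMod 2) = 1 ∨ (D.cartan j (D.simple i) : ZMod 2) = 1
  det : ∀ J : Fin D.rank → Bool, (∃ j, J j = true) →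
    ∃ k : Fin D.rank, (∑ j, if J j then (D.cartan j (D.simple k) : ZMod 2) else 0) ≠ 0

/-- If all descents of a parity-preserving element are negated simple roots, one of them or an adjacent sum is even. -/
theorem exists_even_descent (hC : CartanOK D) {p : Fin D.nroots → ZMod 2} (hp : PLin R p) (w : R.WQ) (hw : w ≠ 1)
    (hfix : ∀ r, p (R.qact w r) = p r)
    (hneg : ∀ k, ¬ half D ≤ (R.qact w (R.sroot k) : ℕ) → R.qact w (R.sroot k) = R.negF (R.sroot k)) :
    (∃ k, R.qact w (R.sroot k) = R.negF (R.sroot k) ∧ p (R.sroot k) = 0) ∨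
      ∃ i j, i ≠ j ∧ R.qact w (R.sroot i) = R.negF (R.sroot i) ∧ R.qact w (R.sroot j) = R.negF (R.sroot j) ∧
        p (R.wperm i (R.sroot j)) = 0 := by
  classical
  by_contra hno
  push Not at hno
  obtain ⟨hno1, hno2⟩ := hno
  have hp1 : ∀ k, R.qact w (R.sroot k) = R.negF (R.sroot k) → p (R.sroot k) = 1 := fun k hk =>
    ((by decide : ∀ x : ZMod 2, x = 0 ∨ x = 1) _).resolve_left (hno1 k hk)
  have horth : ∀ i j, R.qact w (R.sroot i) = R.negF (R.sroot i) → R.qact w (R.sroot j) = R.negF (R.sroot j) →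
      i ≠ j → D.cartan i (D.simple j) = 0 := by
    intro i j hi hj hij
    by_contra hc
    rcases hC.odd i j hij hc with h | h
    · refine hno2 i j hij hi hj ?_
      rw [plin_wperm R hp, hp1 i hi, hp1 j hj]
      show (1 : ZMod 2) - (D.cartan i (D.simple j) : ZMod 2) * 1 = 0
      rw [h, mul_one, sub_self]
    · refine hno2 j i (Ne.symm hij) hj hi ?_
      rw [plin_wperm R hp, hp1 i hi, hp1 j hj]
      show (1 : ZMod 2) - (D.cartan j (D.simple i) : ZMod 2) * 1 = 0
      rw [h, mul_one, sub_self]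
  obtain ⟨l, hl, hnd⟩ : ∃ l : List (Fin D.rank),
      (∀ k, k ∈ l ↔ R.qact w (R.sroot k) = R.negF (R.sroot k)) ∧ l.Nodup :=
    ⟨(Finset.univ.filter fun k => R.qact w (R.sroot k) = R.negF (R.sroot k)).toList, by simp, Finset.nodup_toList _⟩
  obtain ⟨P, hP⟩ : ∃ P, P = R.nsPerm (l.map R.nS).prod := ⟨_, rfl⟩
  have hcoef := coef_prod_nS R l hnd (fun i hi j hj => horth i j ((hl i).1 hi) ((hl j).1 hj))
  rw [← hP] at hcoef
  have hlin := R.isLin_qact w
  have hJcoef : ∀ i j : Fin D.rank, j ∈ l → X.coef i (R.qact w (R.sroot j) : ℕ) = -(if i = j then 1 else 0) := by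
    intro i j hj
    rw [(hl j).1 hj]
    show X.coef i (D.neg (R.sroot j : ℕ)) = _
    rw [R.cert.coef_neg (R.sroot j).2 i.2, R.coef_sroot]
  -- the product undoes the element
  have hone : w * R.qmk (l.map R.nS).prod = 1 := by
    by_contra hne
    obtain ⟨k, hk⟩ := R.exists_descent hne
    refine hk ?_
    rw [map_mul, R.qact_qmk, ← hP, Equiv.Perm.mul_apply]
    have hval : ∀ i : Fin D.rank, X.coef i (R.qact w (P (R.sroot k)) : ℕ) =
        X.coef i (R.qact w (R.sroot k) : ℕ) + if i ∈ l then D.cartan i (D.simple k) else 0 := by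
      intro i
      rw [hlin (P (R.sroot k)) i, Finset.sum_congr rfl fun j _ => by rw [hcoef, sub_mul, R.coef_sroot],
        Finset.sum_sub_distrib]
      simp only [ite_mul, one_mul, zero_mul, Finset.sum_ite_eq', Finset.mem_univ, if_true, sub_eq_add_neg]
      congr 1
      rw [← Finset.sum_neg_distrib, Finset.sum_eq_single i]
      · by_cases hi : i ∈ l
        · rw [if_pos hi, if_pos hi, hJcoef i i hi, if_pos rfl]
          show -(D.cartan i (D.simple k) * -1) = _
          ring
        · rw [if_neg hi, if_neg hi, neg_zero]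
      · intro j _ hji
        by_cases hj : j ∈ l
        · rw [if_pos hj, hJcoef i j hj, if_neg (Ne.symm hji), neg_zero, mul_zero, neg_zero]
        · rw [if_neg hj, neg_zero]
      · exact fun h => absurd (Finset.mem_univ i) h
    by_cases hkl : k ∈ l
    · refine R.pos_of_coef _ k ?_
      rw [hval, hJcoef k k hkl, if_pos rfl, if_pos hkl, R.cert.cartan_simple k.2]
      norm_num
    · have hpos : half D ≤ (R.qact w (R.sroot k) : ℕ) := by
        by_contra h
        exact hkl ((hl k).2 (hneg k h))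
      obtain ⟨i, hi, hine⟩ : ∃ i : Fin D.rank, i ∉ l ∧ X.coef i (R.qact w (R.sroot k) : ℕ) ≠ 0 := by
        by_contra hall
        push Not at hall
        obtain ⟨u, hu⟩ : ∃ u, u = R.qact w (R.sroot k) := ⟨_, rfl⟩
        have hinv : ∀ j, j ∈ l → R.qact w⁻¹ (R.sroot j) = R.negF (R.sroot j) := fun j hj => by
          refine (R.qact w).injective ?_
          rw [R.qact_inv_apply, R.qact_negF, (hl j).1 hj, R.negF_negF]
        have h1 := R.isLin_qact w⁻¹ u k
        rw [hu, R.qact_apply_inv, R.coef_sroot, if_pos rfl, Finset.sum_eq_zero (fun j _ => ?_)] at h1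
        · exact one_ne_zero h1
        · by_cases hj : j ∈ l
          · rw [hinv j hj]
            show _ * X.coef k (D.neg (R.sroot j : ℕ)) = 0
            rw [R.cert.coef_neg (R.sroot j).2 k.2, R.coef_sroot, if_neg (fun e : k = j => hkl (e ▸ hj)), neg_zero,
              mul_zero]
          · rw [hall j hj, zero_mul]
      refine R.pos_of_coef _ i ?_
      rw [hval, if_neg hi, add_zero]
      exact lt_of_le_of_ne (R.cert.coef_nonneg (R.qact w (R.sroot k)).2 i.2 hpos) (Ne.symm hine)
  -- parities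
  have hne : l ≠ [] := fun h => hw (by rw [← hone, h, List.map_nil, List.prod_nil, map_one, mul_one])
  obtain ⟨k, hk⟩ := hC.det (fun j => decide (j ∈ l)) (by
    obtain ⟨j, hj⟩ := List.exists_mem_of_ne_nil l hne
    exact ⟨j, by simp [hj]⟩)
  refine hk ?_
  have hPw : ∀ r, R.qact w (P r) = r := fun r => by
    rw [hP, ← R.qact_qmk, ← R.qact_mul_apply, hone, map_one, Equiv.Perm.one_apply]
  have hpk : p (P (R.sroot k)) = p (R.sroot k) := by rw [← hfix (P (R.sroot k)), hPw]
  rw [hp (P (R.sroot k)), hp (R.sroot k)] at hpk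
  simp only [hcoef, Int.cast_sub, Int.cast_ite, Int.cast_zero, ite_mul, zero_mul, sub_mul, Finset.sum_sub_distrib, sub_eq_self] at hpk
  refine Eq.trans (Finset.sum_congr rfl fun j _ => ?_) hpk
  by_cases hj : j ∈ l
  · rw [if_pos hj, hp1 j ((hl j).1 hj), mul_one]; simp [hj, Rel.sroot]
  · simp [hj]

end CfsgLib.Lie.OddInvolution
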