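import Cfsg.Agent.Lib.Lie.OddInvolution.Normalise
import Cfsg.Agent.Lib.Lie.OddInvolution.Parity
import Cfsg.Agent.Lib.Lie.Rel.SL2

/-!
# Descent of twisted involutions in the monomial group to the torus
-/

set_option autoImplicit false
set_option maxHeartbeats 1600000

namespace CfsgLib.Lie.OddInvolution

open Cfsg.Lie (ChevalleyDatum)
open CfsgLib.Lie.Chev

variable {D : ChevalleyDatum} {X : Aux} {F : Type*} [Field F] {G : Type*} [Group G] (R : Rel D X F G)

theorem eta_cases (i s : ℕ) : ((X.eta i s : ℤ) : F) = 1 ∨ ((X.eta i s : ℤ) : F) = -1 :=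
  mul_self_eq_one_iff.1 (X.eta_sq_cast i s)

/-- Conjugating a torus element by a monomial element. -/
theorem isMon_conj {m t : G} {σ : Equiv.Perm (Fin D.nroots)} {b a : Fin D.nroots → F} (hm : R.IsMon m σ b)
    (ht : R.IsMon t 1 a) : R.IsMon (m * t * m⁻¹) 1 fun r => a (σ⁻¹ r) := by
  have h1 := R.isMon_mul (R.isMon_mul hm ht) (R.isMon_inv hm)
  rw [mul_one, mul_inv_cancel] at h1
  refine (congrArg (R.IsMon _ 1) (funext fun r => ?_)).mp h1
  simp only [Equiv.Perm.one_apply]
  rw [mul_comm (b (σ⁻¹ r)), mul_assoc, mul_inv_cancel₀ (hm _).1, mul_one]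

/-- A monomial element commuting with a sign torus element preserves its parity. -/
theorem parity_nsPerm (h2 : (2 : F) ≠ 0) {t : G} {p : Fin D.nroots → ZMod 2} (ht : R.IsMon t 1 fun r => sgn (p r))
    (n : R.NS) (hn : Commute (n : G) t) (r : Fin D.nroots) : p (R.nsPerm n r) = p r := by
  obtain ⟨b, hb⟩ := R.isMon_nsPerm n
  have h1 := isMon_conj R hb ht
  rw [hn.eq, mul_inv_cancel_right] at h1
  have e := congrFun (R.isMon_unique ht h1).2 (R.nsPerm n r)
  rw [Equiv.Perm.inv_def, Equiv.symm_apply_apply] at e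
  exact sgn_inj h2 e

/-- The data used in the descent. -/
structure Setup (φ : G →* G) (τ : F →+* F) (Good : F → Prop) : Prop where
  compat : Compat R φ
  map_xe : ∀ r s, φ (R.xe r s) = R.xe r (τ s)
  good_neg : ∀ c, Good c → Good (-c)
  norm : ∀ c, c ≠ 0 → Good c → ∃ x y, x ≠ y ∧ x * τ x = c ∧ y * τ y = c

/-- The step inside the rank one subgroup of a negated even simple root. -/
theorem sl_step {φ : G →* G} {τ : F →+* F} {Good : F → Prop} (S : Setup R φ τ Good) (k : Fin D.rank) {n : R.NS}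
    {a : Fin D.nroots → F} (ha : R.IsMon n (R.nsPerm n) a) (hk : R.nsPerm n (R.sroot k) = R.negF (R.sroot k))
    (hg : Good (a (R.sroot k))) :
    ∃ (g : Matrix.SpecialLinearGroup (Fin 2) F) (d : F), d ≠ 0 ∧
      R.slHom (R.sroot k) g * n * (φ (R.slHom (R.sroot k) g))⁻¹ = R.ne (D.simple k) d * n := by
  obtain ⟨c, hc⟩ : ∃ c, c = a (R.sroot k) := ⟨_, rfl⟩
  have hc0 : c ≠ 0 := hc ▸ (ha _).1
  obtain ⟨x, y, hxy, hx, hy⟩ := S.norm c hc0 (hc ▸ hg)
  have hd : x - y ≠ 0 := sub_ne_zero.2 hxy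
  have hy0 : y ≠ 0 := fun h => hc0 (by rw [← hy, h, zero_mul])
  obtain ⟨g, hg⟩ : ∃ g : Matrix.SpecialLinearGroup (Fin 2) F, g.1 = !![x / (x - y), 1 / (x - y); y, 1] :=
    ⟨⟨_, by rw [Matrix.det_fin_two_of]; field_simp⟩, rfl⟩
  obtain ⟨L, hL⟩ : ∃ L : F → Matrix.SpecialLinearGroup (Fin 2) F, ∀ t, (L t).1 = !![1, 0; t, 1] :=
    ⟨fun t => ⟨!![1, 0; t, 1], by simp [Matrix.det_fin_two]⟩, fun _ => rfl⟩
  have hinv : g⁻¹ = L (-y) * Rel.slX (-1 / (x - y)) := by
    refine inv_eq_of_mul_eq_one_right (Subtype.ext ?_)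
    rw [Rel.sl_mul_val, Rel.sl_mul_val, hg, hL, Rel.slX_val, Matrix.SpecialLinearGroup.coe_one]
    ext i j
    fin_cases i <;> fin_cases j <;> simp [Matrix.mul_apply] <;> field_simp <;> ring
  have hlow : ∀ t, R.slHom (R.sroot k) (L t) = R.xe (R.negF (R.sroot k)) t := fun t =>
    R.slHom_lower _ t _ (hL t)
  have hup : ∀ t, R.slHom (R.sroot k) (Rel.slX t) = R.xe (R.sroot k) t := fun t => R.slMap_slX _ t
  have h1 : ∀ t, (n : G) * R.xe (R.sroot k) t * (n : G)⁻¹ = R.xe (R.negF (R.sroot k)) (c * t) := by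
    intro t
    have := (ha (R.sroot k)).2.2.2 t
    rwa [hk, ← hc] at this
  have h2 : ∀ t, (n : G) * R.xe (R.negF (R.sroot k)) t * (n : G)⁻¹ = R.xe (R.sroot k) (c⁻¹ * t) := by
    intro t
    have := (ha (R.negF (R.sroot k))).2.2.2 t
    rwa [(ha _).2.1, (ha _).2.2.1, hk, R.negF_negF, ← hc] at this
  obtain ⟨Y, hY⟩ : ∃ Y, Y = R.slHom (R.sroot k) g := ⟨_, rfl⟩
  have hφY : (φ Y)⁻¹ = R.xe (R.negF (R.sroot k)) (τ (-y)) * R.xe (R.sroot k) (τ (-1 / (x - y))) := by
    rw [← map_inv, hY, ← map_inv, hinv, map_mul, map_mul, hlow, hup, S.map_xe, S.map_xe]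
  have hprod : g * (Rel.slX (c⁻¹ * τ (-y)) * L (c * τ (-1 / (x - y)))) =
      ⟨!![0, -1 / y; y, 0], by simp [Matrix.det_fin_two, neg_div, hy0]⟩ := by
    refine Subtype.ext ?_
    show _ = !![0, -1 / y; y, 0]
    rw [Rel.sl_mul_val, Rel.sl_mul_val, hg, hL, Rel.slX_val]
    have hty : τ y = c / y := by rw [eq_div_iff hy0, mul_comm, hy]
    have hx0 : x ≠ 0 := fun h => hc0 (by rw [← hx, h, zero_mul])
    have htx : τ x = c / x := by rw [eq_div_iff hx0, mul_comm, hx]
    have htd : τ (x - y) ≠ 0 := (map_ne_zero τ).2 hd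
    rw [map_div₀, map_neg, map_neg, map_one, map_sub, htx, hty]
    rw [map_sub, htx, hty] at htd
    have hyx : y - x ≠ 0 := sub_ne_zero.2 (Ne.symm hxy)
    have e : (-1 : F) / (c / x - c / y) = -(x * y) / (c * (y - x)) := by
      rw [div_eq_div_iff htd (mul_ne_zero hc0 hyx)]
      field_simp
    rw [e]
    ext i j
    fin_cases i <;> fin_cases j <;> simp [Matrix.mul_apply] <;> field_simp <;> ring
  refine ⟨g, -1 / y, div_ne_zero (neg_ne_zero.2 one_ne_zero) hy0, ?_⟩
  rw [← hY, hφY]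
  have e : Y * n * (R.xe (R.negF (R.sroot k)) (τ (-y)) * R.xe (R.sroot k) (τ (-1 / (x - y)))) =
      Y * (R.xe (R.sroot k) (c⁻¹ * τ (-y)) * R.xe (R.negF (R.sroot k)) (c * τ (-1 / (x - y)))) * n := by
    rw [← h2, ← h1]; group
  rw [e, hY, ← hup, ← hlow, ← map_mul, ← map_mul, hprod]
  refine congrArg (· * (n : G)) ?_
  show R.slEval (R.sroot k) 0 (-1 / y) y 0 = _
  rw [Rel.slEval, if_neg hy0, zero_div, R.xe_zero, one_mul, mul_one, neg_div, one_div]; rfl

include R in
/-- Roots are determined by their coordinates. -/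
theorem root_ext {r s : Fin D.nroots} (h : ∀ j : Fin D.rank, X.coef j (r : ℕ) = X.coef j (s : ℕ)) : r = s := by
  obtain ⟨g, hgN, i, hi⟩ := R.exists_conj_simple r
  obtain ⟨n, hn⟩ : ∃ n : R.NS, R.nsPerm n = R.monPerm g :=
    ⟨⟨g, (le_sup_right : R.Nw ≤ R.NS) hgN⟩, rfl⟩
  rw [← hn] at hi
  obtain ⟨u, hu⟩ : ∃ u, u = R.nsPerm n⁻¹ s := ⟨_, rfl⟩
  have hr : R.nsPerm n⁻¹ r = R.sroot i := by
    rw [← hi, ← Equiv.Perm.mul_apply, ← map_mul, inv_mul_cancel, map_one, Equiv.Perm.one_apply]
  have hc : ∀ j : Fin D.rank, X.coef j (u : ℕ) = if j = i then 1 else 0 := fun j => by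
    rw [← R.coef_sroot, ← hr, hu, R.isLin_nsPerm n⁻¹ s j, R.isLin_nsPerm n⁻¹ r j]
    exact Finset.sum_congr rfl fun m _ => by rw [h m]
  have hui : u = R.sroot i := by
    rcases R.cert.coef_supp u.2 i.2 with e | e | ⟨j, hj, hji, hne⟩
    · exact Fin.ext e
    · exfalso
      have := hc i
      rw [e, R.cert.coef_neg (R.cert.simple_lt i.2) i.2, R.cert.coef_simple i.2 i.2, if_pos rfl, if_pos rfl] at this
      omega
    · exfalso
      exact hne (by simpa [show (⟨j, hj⟩ : Fin D.rank) ≠ i from fun e => hji (congrArg Fin.val e)] using hc ⟨j, hj⟩)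
  exact (R.nsPerm n⁻¹).injective (by rw [hr, ← hu, hui])

theorem coef_wperm (k : Fin D.rank) (r : Fin D.nroots) (j : Fin D.rank) :
    X.coef j (R.wperm k r : ℕ) = X.coef j (r : ℕ) - if j = k then D.cartan k (r : ℕ) else 0 := by
  rw [R.wperm_apply, R.cert.coef_w k.2 r.2 j.2]
  by_cases h : j = k
  · subst h; simp
  · rw [if_neg (fun e => h (Fin.ext e)), if_neg h, sub_zero]

theorem coef_negF (r : Fin D.nroots) (j : Fin D.rank) : X.coef j (R.negF r : ℕ) = -X.coef j (r : ℕ) :=
  R.cert.coef_neg r.2 j.2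

theorem wperm_fix (k : Fin D.rank) {r : Fin D.nroots} (h : D.cartan k (r : ℕ) = 0) : R.wperm k r = r :=
  root_ext R fun j => by rw [coef_wperm, h]; simp

/-- Conjugating by the reflection of one negated simple root keeps another one negated. -/
theorem conj_neg {w : Equiv.Perm (Fin D.nroots)} (hw : R.IsLin w) {i j : Fin D.rank}
    (hi : w (R.sroot i) = R.negF (R.sroot i)) (hj : w (R.sroot j) = R.negF (R.sroot j)) :
    R.wperm i (w (R.wperm i (R.sroot j))) = R.negF (R.sroot j) := by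
  have e : w (R.wperm i (R.sroot j)) = R.negF (R.wperm i (R.sroot j)) := by
    refine root_ext R fun l => ?_
    rw [hw, coef_negF, coef_wperm]
    simp only [coef_wperm, sub_mul, Finset.sum_sub_distrib, ite_mul, zero_mul, Finset.sum_ite_eq',
      Finset.mem_univ, if_true, R.coef_sroot, hi, hj, coef_negF, one_mul]
    split_ifs <;> ring
  rw [e, show R.wperm i (R.negF (R.wperm i (R.sroot j))) = R.negF (R.wperm i (R.wperm i (R.sroot j))) from
    Fin.ext (R.cert.w_neg i.2 (R.wperm i (R.sroot j)).2), R.wperm_invol]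

variable {φ : G →* G} {τ : F →+* F} {Good : F → Prop}

/-- The permutation of a twisted involution is an involution. -/
theorem nsPerm_invol (S : Setup R φ τ Good) (n : R.NS) (hn : (n : G) * φ n = 1) (r : Fin D.nroots) :
    R.nsPerm n (R.nsPerm n r) = r := by
  obtain ⟨m, hm, hmp⟩ := S.compat.map_NS n
  have h1 : n * m = 1 := Subtype.ext (by rw [Subgroup.coe_mul, ← hm, hn, Subgroup.coe_one])
  have h3 := congrArg (fun z => R.nsPerm z r) h1
  simpa [map_mul, hmp, Equiv.Perm.mul_apply] using h3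

theorem qgen_inv (k : Fin D.rank) : (R.qgen k)⁻¹ = R.qgen k := inv_eq_of_mul_eq_one_right (R.qgen_genInv.sq k)

theorem invN_qgen_mul_le (u : R.WQ) (k : Fin D.rank) : R.invN (R.qgen k * u) ≤ R.invN u + 1 := by
  by_cases h : half D ≤ (R.qact u⁻¹ (R.sroot k) : ℕ)
  · exact (R.invN_simple_mul h).le
  · have h' : half D ≤ (R.qact (R.qgen k * u)⁻¹ (R.sroot k) : ℕ) := by
      rw [mul_inv_rev, R.qact_mul_apply, qgen_inv R, R.qact_qgen, R.wperm_sroot, R.qact_negF]
      exact (R.negF_pos_iff _).2 h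
    have := R.invN_simple_mul h'
    rw [R.qgen_genInv.cancel] at this
    omega

/-- A twisted involution of the monomial group commuting with a sign torus element descends to the torus. -/
theorem exists_twisted_conj_HS (hC : CartanOK D) (h2 : (2 : F) ≠ 0) (S : Setup R φ τ Good) (N : ℕ) :
    ∀ (n : R.NS) (t : G) (p : Fin D.nroots → ZMod 2), t ∈ R.HS → φ t = t → PLin R p → R.IsMon t 1 (fun r => sgn (p r)) →
      R.invN (R.qmk n) ≤ N → (n : G) * φ n = 1 → Commute (n : G) t →
      (∀ a, R.IsMon n (R.nsPerm n) a → ∀ r, R.nsPerm n r = R.negF r → Good (a r)) →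
      ∃ y, Commute y t ∧ ∃ h ∈ R.HS, y * n * (φ y)⁻¹ = h := by
  induction N using Nat.strong_induction_on with
  | _ N ih =>
  intro n t p htH hφt hp ht hN hn hnt hgood
  by_cases hone : R.qmk n = 1
  · exact ⟨1, Commute.one_left _, n, R.qmk_eq_one.1 hone, by rw [map_one, one_mul, inv_one, mul_one]⟩
  have hφne : ∀ k : Fin D.rank, φ (R.ne (D.simple k) 1) = R.ne (D.simple k) 1 := fun k => by
    simp only [Rel.ne, neOf, map_mul, S.map_xe, map_neg, map_inv₀, map_one]
  have hinvol := nsPerm_invol R S n hn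
  obtain ⟨a, ha⟩ := R.isMon_nsPerm n
  -- conjugation by a simple monomial element
  have hconj : ∀ k : Fin D.rank, ∃ (n' : R.NS) (t' : G) (p' : Fin D.nroots → ZMod 2),
      (n' : G) = R.ne (D.simple k) 1 * n * (R.ne (D.simple k) 1)⁻¹ ∧
      R.qmk n' = R.qgen k * R.qmk n * R.qgen k ∧
      (∀ r, p' r = p (R.wperm k r)) ∧
      t' = R.ne (D.simple k) 1 * t * (R.ne (D.simple k) 1)⁻¹ ∧ (t' ∈ R.HS ∧ φ t' = t') ∧ PLin R p' ∧
      R.IsMon t' 1 (fun r => sgn (p' r)) ∧ (n' : G) * φ n' = 1 ∧ Commute (n' : G) t' ∧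
      (∀ b, R.IsMon n' (R.nsPerm n') b → ∀ r, R.nsPerm n' r = R.negF r → Good (b r)) := by
    intro k
    have hperm : R.nsPerm (R.nS k * n * (R.nS k)⁻¹) = R.wperm k * R.nsPerm n * (R.wperm k)⁻¹ := by
      rw [map_mul, map_mul, map_inv, R.nsPerm_nS]
    refine ⟨R.nS k * n * (R.nS k)⁻¹, R.ne (D.simple k) 1 * t * (R.ne (D.simple k) 1)⁻¹, fun r => p (R.wperm k r),
      rfl, ?_, fun r => rfl, rfl, ⟨R.HS_conj (R.ne_simple_mem_NS k one_ne_zero) htH,
      by rw [map_mul, map_mul, map_inv, hφne, hφt]⟩, plin_comp R hp (R.isLin_wperm k),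
      ?_, ?_, ?_, ?_⟩
    · rw [map_mul, map_mul, map_inv, show R.qmk (R.nS k) = R.qgen k from rfl, qgen_inv R]
    · have h := isMon_conj R (R.isMon_ne_simple k one_ne_zero) ht
      rwa [show (R.wperm k)⁻¹ = R.wperm k from inv_eq_of_mul_eq_one_right (R.wperm_mul_self k)] at h
    · show R.ne (D.simple k) 1 * n * (R.ne (D.simple k) 1)⁻¹ *
        φ (R.ne (D.simple k) 1 * n * (R.ne (D.simple k) 1)⁻¹) = 1
      rw [map_mul, map_mul, map_inv, hφne]
      calc _ = R.ne (D.simple k) 1 * ((n : G) * φ n) * (R.ne (D.simple k) 1)⁻¹ := by group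
        _ = 1 := by rw [hn, mul_one, mul_inv_cancel]
    · exact (Commute.conj_iff (R.ne (D.simple k) 1)).2 hnt
    · intro b hb r hr
      have h1 := R.isMon_mul (R.isMon_mul (R.isMon_ne_simple k (c := (1 : F)) one_ne_zero) ha)
        (R.isMon_inv (R.isMon_ne_simple k (c := (1 : F)) one_ne_zero))
      have e := congrFun (R.isMon_unique hb h1).2 r
      rw [e]
      obtain ⟨s, hs⟩ : ∃ s, s = (R.wperm k)⁻¹ r := ⟨_, rfl⟩
      have hrs : r = R.wperm k s := by rw [hs, Equiv.Perm.inv_def, Equiv.apply_symm_apply]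
      have hsneg : R.nsPerm n s = R.negF s := by
        refine (R.wperm k).injective ?_
        have h3 : R.wperm k (R.nsPerm n s) = R.negF r := by
          rw [← hr, hperm, Equiv.Perm.mul_apply, Equiv.Perm.mul_apply, ← hs]
        rw [h3, hrs]
        exact (Fin.ext (R.cert.w_neg k.2 s.2)).symm
      simp only [← hs, one_zpow, mul_one]
      rcases eta_cases (X := X) (F := F) k (R.nsPerm n s : ℕ) with h3 | h3 <;>
        rcases eta_cases (X := X) (F := F) k (s : ℕ) with h4 | h4 <;> rw [h3, h4]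
      all_goals first
        | simpa using hgood a ha s hsneg
        | simpa using S.good_neg _ (hgood a ha s hsneg)
  have hback : ∀ k : Fin D.rank, ∀ y, Commute y (R.ne (D.simple k) 1 * t * (R.ne (D.simple k) 1)⁻¹) →
      ∀ h ∈ R.HS, y * (R.ne (D.simple k) 1 * n * (R.ne (D.simple k) 1)⁻¹) * (φ y)⁻¹ = h →
      ∃ y, Commute y t ∧ ∃ h ∈ R.HS, y * n * (φ y)⁻¹ = h := by
    intro k y hy h hh e
    refine ⟨(R.ne (D.simple k) 1)⁻¹ * y * R.ne (D.simple k) 1, ?_, (R.ne (D.simple k) 1)⁻¹ * h * R.ne (D.simple k) 1,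
      by simpa using R.HS_conj (inv_mem (R.ne_simple_mem_NS k one_ne_zero)) hh, ?_⟩
    · refine (Commute.conj_iff (R.ne (D.simple k) 1)).1 ?_
      simpa [mul_assoc] using hy
    · rw [map_mul, map_mul, map_inv, hφne, ← e]; group
  -- a descent which is not negated
  by_cases hcase : ∃ k, ¬ half D ≤ (R.qact (R.qmk n) (R.sroot k) : ℕ) ∧
      R.nsPerm n (R.sroot k) ≠ R.negF (R.sroot k)
  · obtain ⟨k, hk, hkne⟩ := hcase
    obtain ⟨n', t', p', hn', hq, -, ht', ⟨ht'H, hφt'⟩, hp', ht'm, hn'1, hn't, hgood'⟩ := hconj k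
    have hdec : R.invN (R.qmk n') < R.invN (R.qmk n) := by
      have hA := R.invN_mul_simple hk
      have hB : half D ≤ (R.qact (R.qgen k * (R.qmk n * R.qgen k))⁻¹ (R.sroot k) : ℕ) := by
        have hwi : ∀ r, R.qact (R.qmk n)⁻¹ r = R.nsPerm n r := fun r => by
          refine (R.qact (R.qmk n)).injective ?_
          rw [R.qact_inv_apply, R.qact_qmk, hinvol]
        rw [mul_inv_rev, mul_inv_rev, qgen_inv R, R.qact_mul_apply, R.qact_mul_apply, R.qact_qgen,
          R.wperm_sroot, hwi, R.nsPerm_negF]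
        refine R.wperm_pos k _ ((R.negF_pos_iff _).2 hk) fun e => hkne ?_
        conv_rhs => rw [← e]
        rw [R.negF_negF]
      have hC' := R.invN_simple_mul hB
      rw [R.qgen_genInv.cancel] at hC'
      rw [hq, mul_assoc]
      omega
    obtain ⟨y, hy, h, hh, e⟩ := ih _ (lt_of_lt_of_le hdec hN) n' t' p' ht'H hφt' hp' ht'm le_rfl hn'1 hn't hgood'
    rw [hn'] at e
    rw [ht'] at hy
    exact hback k y hy h hh e
  push Not at hcase
  -- the rank one step
  have hstep : ∀ (k : Fin D.rank) (m : R.NS) (s : G) (q : Fin D.nroots → ZMod 2), s ∈ R.HS → φ s = s → PLin R q →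
      R.IsMon s 1 (fun r => sgn (q r)) → R.invN (R.qmk m) ≤ N → (m : G) * φ m = 1 → Commute (m : G) s →
      (∀ b, R.IsMon m (R.nsPerm m) b → ∀ r, R.nsPerm m r = R.negF r → Good (b r)) →
      R.nsPerm m (R.sroot k) = R.negF (R.sroot k) → q (R.sroot k) = 0 →
      ∃ y, Commute y s ∧ ∃ h ∈ R.HS, y * m * (φ y)⁻¹ = h := by
    intro k m s q hsH hφs hq hs hmN hm hms hmgood hmk hq0
    obtain ⟨b, hb⟩ := R.isMon_nsPerm m
    obtain ⟨g, d, hd, hgd⟩ := sl_step R S k hb hmk (hmgood b hb _ hmk)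
    obtain ⟨m', hm'⟩ : ∃ m' : R.NS, (m' : G) = R.ne (D.simple k) d * m :=
      ⟨⟨_, mul_mem (R.ne_simple_mem_NS k hd) m.2⟩, rfl⟩
    have hm'eq : m' = ⟨R.ne (D.simple k) d, R.ne_simple_mem_NS k hd⟩ * m := Subtype.ext hm'
    have hcomm : Commute (R.slHom (R.sroot k) g) s := by
      have hgen : ∀ r : Fin D.nroots, q r = 0 → ∀ u, Commute (R.xe r u) s := fun r hr u => by
        have h := (hs r).2.2.2 u
        simp only [hr, sgn, if_true, one_mul, Equiv.Perm.one_apply] at h
        exact (mul_inv_eq_iff_eq_mul.1 h).symm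
      have hneg0 : q (R.negF (R.sroot k)) = 0 := by
        rw [hq, Finset.sum_eq_single k]
        · rw [hq0, mul_zero]
        · intro j _ hj
          show (X.coef j (D.neg (R.sroot k : ℕ)) : ZMod 2) * _ = 0
          rw [R.cert.coef_neg (R.sroot k).2 j.2, R.coef_sroot, if_neg hj]; simp
        · exact fun h => absurd (Finset.mem_univ k) h
      have hle : (R.slHom (R.sroot k)).range ≤ Subgroup.centralizer {s} := by
        rw [R.slHom_range]
        refine sup_le ((Subgroup.closure_le _).2 ?_) ((Subgroup.closure_le _).2 ?_) <;> rintro _ ⟨u, rfl⟩ <;>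
          rw [SetLike.mem_coe, Subgroup.mem_centralizer_singleton_iff]
        · exact (hgen _ hq0 u).eq
        · exact (hgen _ hneg0 u).eq
      exact Subgroup.mem_centralizer_singleton_iff.1 (hle ⟨g, rfl⟩)
    have hm'1 : (m' : G) * φ m' = 1 := by
      rw [hm', ← hgd, map_mul, map_mul, map_inv, S.compat.invol]
      calc _ = R.slHom (R.sroot k) g * ((m : G) * φ m) * (R.slHom (R.sroot k) g)⁻¹ := by group
        _ = 1 := by rw [hm, mul_one, mul_inv_cancel]
    have hm's : Commute (m' : G) s := by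
      rw [hm', ← hgd]
      refine (hcomm.mul_left hms).mul_left (Commute.inv_left ?_)
      have h := congrArg φ hcomm.eq
      rwa [map_mul, map_mul, hφs] at h
    have hperm : R.nsPerm m' = R.wperm k * R.nsPerm m := by
      rw [hm'eq, map_mul, R.nsPerm_eq (g := ⟨R.ne (D.simple k) d, _⟩) (R.isMon_ne_simple k hd)]
    have hdec : R.invN (R.qmk m') < R.invN (R.qmk m) := by
      have hqm : R.qmk m' = R.qgen k * R.qmk m := by rw [hm'eq, map_mul, R.qmk_ne k hd]
      have hpos : half D ≤ (R.qact (R.qgen k * R.qmk m)⁻¹ (R.sroot k) : ℕ) := by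
        have hmi : R.qact (R.qmk m)⁻¹ (R.sroot k) = R.negF (R.sroot k) := by
          refine (R.qact (R.qmk m)).injective ?_
          rw [R.qact_inv_apply, R.qact_negF, R.qact_qmk, hmk, R.negF_negF]
        rw [mul_inv_rev, qgen_inv R, R.qact_mul_apply, R.qact_qgen, R.wperm_sroot, R.qact_negF, hmi,
          R.negF_negF]
        exact R.sroot_pos k
      have h := R.invN_simple_mul hpos
      rw [R.qgen_genInv.cancel, ← hqm] at h
      omega
    have hm'inv : ∀ r, R.nsPerm m' (R.nsPerm m' r) = r := by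
      intro r
      obtain ⟨mm, hmm, hmp⟩ := S.compat.map_NS m'
      have h1 : m' * mm = 1 := Subtype.ext (by rw [Subgroup.coe_mul, ← hmm, hm'1, Subgroup.coe_one])
      have h3 := congrArg (fun z => R.nsPerm z r) h1
      simpa [map_mul, hmp, Equiv.Perm.mul_apply] using h3
    refine (ih _ (lt_of_lt_of_le hdec hmN) m' s q hsH hφs hq hs le_rfl hm'1 hm's ?_).elim ?_
    · intro b' hb' r hr
      have hmul := R.isMon_mul (R.isMon_ne_simple k hd) hb
      rw [← hm', ← hperm] at hmul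
      rw [congrFun (R.isMon_unique hb' hmul).2 r]
      -- the simple root is fixed, so the reflection fixes the root
      have hcart : D.cartan k (r : ℕ) = 0 := by
        have e1 : R.nsPerm m r = R.wperm k (R.negF r) := by
          rw [← hr, hperm, Equiv.Perm.mul_apply, R.wperm_invol]
        have e2 : R.nsPerm m' (R.sroot k) = R.sroot k := by
          rw [hperm, Equiv.Perm.mul_apply, hmk, ← R.wperm_sroot, R.wperm_invol]
        have e4 : R.nsPerm m' (R.wperm k r) = R.negF (R.wperm k r) := by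
          have h5 : R.nsPerm m (R.wperm k r) = R.negF r := by
            refine (R.nsPerm m).injective ?_
            have : R.nsPerm m (R.nsPerm m (R.wperm k r)) = R.wperm k r := nsPerm_invol R S m hm _
            rw [this, R.nsPerm_negF, e1]
            rw [show R.negF (R.wperm k (R.negF r)) = R.wperm k r from by
              refine Fin.ext ?_
              show D.neg (X.w k (D.neg r)) = X.w k r
              rw [R.cert.w_neg k.2 r.2, R.cert.neg_neg (R.cert.w_lt k.2 r.2)]]
          rw [hperm, Equiv.Perm.mul_apply, h5]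
          exact Fin.ext (R.cert.w_neg k.2 r.2)
        have hl := R.isLin_nsPerm m' (R.wperm k r) k
        have hl0 := R.isLin_nsPerm m' r k
        rw [e4] at hl
        rw [hr] at hl0
        have hcw : ∀ j : Fin D.rank, X.coef j (R.wperm k r : ℕ) =
            X.coef j (r : ℕ) - if j = k then D.cartan k (r : ℕ) else 0 := by
          intro j
          rw [R.wperm_apply, R.cert.coef_w k.2 r.2 j.2]
          by_cases h : j = k
          · subst h; simp
          · rw [if_neg (fun e => h (Fin.ext e)), if_neg h, sub_zero]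
        simp only [hcw, sub_mul, Finset.sum_sub_distrib, ite_mul, zero_mul, Finset.sum_ite_eq', Finset.mem_univ,
          if_true, e2, R.coef_sroot, mul_one] at hl
        rw [← hl0] at hl
        have hn1 : X.coef k (R.negF (R.wperm k r) : ℕ) = -(X.coef k (r : ℕ) - D.cartan k (r : ℕ)) := by
          show X.coef k (D.neg (R.wperm k r : ℕ)) = _
          rw [R.cert.coef_neg (R.wperm k r).2 k.2, hcw, if_pos rfl]
        have hn2 : X.coef k (R.negF r : ℕ) = -X.coef k (r : ℕ) := R.cert.coef_neg r.2 k.2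
        omega
      have hmr : R.nsPerm m r = R.negF r := by
        have e1 : R.nsPerm m r = R.wperm k (R.negF r) := by
          rw [← hr, hperm, Equiv.Perm.mul_apply, R.wperm_invol]
        rw [e1]
        refine wperm_fix R k ?_
        show D.cartan k (D.neg r) = 0
        rw [R.cert.cartan_neg r.2 k.2, hcart, neg_zero]
      have h0 : D.cartan k (R.nsPerm m r : ℕ) = 0 := by
        rw [hmr]
        show D.cartan k (D.neg r) = 0
        rw [R.cert.cartan_neg r.2 k.2, hcart, neg_zero]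
      rw [h0, neg_zero, zpow_zero, mul_one]
      rcases eta_cases (X := X) (F := F) k (R.nsPerm m r : ℕ) with h3 | h3 <;> rw [h3]
      · simpa using hmgood b hb r hmr
      · simpa using S.good_neg _ (hmgood b hb r hmr)
    · rintro y ⟨hy, h, hh, e⟩
      refine ⟨y * R.slHom (R.sroot k) g, hy.mul_left hcomm, h, hh, ?_⟩
      rw [← e, hm', ← hgd, map_mul]; group
  rcases exists_even_descent R hC hp (R.qmk n) hone (fun r => by rw [R.qact_qmk]; exact parity_nsPerm R h2 ht n hnt r)
      (fun k hk => by rw [R.qact_qmk]; exact hcase k (not_le.1 hk)) with ⟨k, hk, hpk⟩ | ⟨i, j, hij, hi, hj, hpij⟩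
  · exact hstep k n t p htH hφt hp ht hN hn hnt hgood hk hpk
  · obtain ⟨n', t', p', hn', hq, hp'e, ht', ⟨ht'H, hφt'⟩, hp', ht'm, hn'1, hn't, hgood'⟩ := hconj i
    rw [R.qact_qmk] at hi hj
    have hle : R.invN (R.qmk n') ≤ R.invN (R.qmk n) := by
      have hA := R.invN_mul_simple (u := R.qmk n) (k := i) (by
        rw [R.qact_qmk, hi, R.negF_pos_iff, not_not]; exact R.sroot_pos i)
      rw [hq, mul_assoc, hA]
      exact invN_qgen_mul_le R _ i
    have hj' : R.nsPerm n' (R.sroot j) = R.negF (R.sroot j) := by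
      rw [← R.qact_qmk, hq, R.qact_mul_apply, R.qact_mul_apply, R.qact_qgen, R.qact_qmk]
      exact conj_neg R (R.isLin_nsPerm n) hi hj
    obtain ⟨y, hy, h, hh, e⟩ := hstep j n' t' p' ht'H hφt' hp' ht'm (hle.trans hN) hn'1 hn't hgood' hj'
      (by rw [hp'e]; exact hpij)
    rw [hn'] at e
    rw [ht'] at hy
    exact hback i y hy h hh e

end CfsgLib.Lie.OddInvolution
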