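import Cfsg.Agent.Lib.Lie.OddInvolution.Count
import Cfsg.Agent.Lib.Lie.Rel.Coxeter
import Cfsg.Agent.Lib.Lie.Rel.PolyCheck

/-!
# The length polynomial of the stabiliser of a parity function

The stabiliser is written as a product of lists of coset representatives along a tower of even root subsystems;
all checks are on tables of permutations packed into natural numbers.
-/

set_option autoImplicit false
set_option maxHeartbeats 800000

namespace CfsgLib.Lie.OddInvolution

open Cfsg.Lie (ChevalleyDatum)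
open CfsgLib.Lie.Chev

/-- An entry of a packed table. -/
def look (T r : ℕ) : ℕ := Nat.land (Nat.shiftRight T (8 * r)) 255

/-- The set of images of the roots selected by two masks. -/
def keyOf (N em pm T : ℕ) : ℕ :=
  (List.range N).foldl (fun acc r => bif Nat.testBit em r && !Nat.testBit pm r then acc ||| 2 ^ look T r else acc) 0

/-- The number of even positive roots made negative by a table. -/
def tabInv (N h em T : ℕ) : ℕ := (List.range N).countP fun r => Nat.testBit em r && Nat.blt (look T r) h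

/-- The checks on one stage: the tables of representatives against the previous and later levels. -/
def chkStage (N h em prev : ℕ) (later : List ℕ) (Ts : List ℕ) : Bool :=
  (Ts.all fun T => ((List.range N).all fun r => !(Nat.testBit em r && Nat.testBit prev r) || Nat.ble h (look T r)) &&
    later.all fun m => (List.range N).all fun r =>
      !(Nat.testBit em r && !Nat.testBit m r) || (Nat.testBit em (look T r) && !Nat.testBit m (look T r))) &&
  decide (Ts.map (keyOf N em prev)).Nodup

/-- The checks on all stages. -/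
def chkStages (N h em : ℕ) : ℕ → List (ℕ × List ℕ) → Bool
  | _, [] => true
  | prev, (m, Ts) :: rest => chkStage N h em prev (m :: rest.map Prod.fst) Ts && chkStages N h em m rest

/-- Every representative is a product of a generator and an earlier one. -/
def chkDer (N : ℕ) (gT : List ℕ) : List ℕ → List (ℕ × ℕ × ℕ) → Bool
  | _, [] => true
  | prev, (T, g, p) :: rest =>
    ((Nat.blt g gT.length && Nat.blt p prev.length &&
        (List.range N).all fun r => Nat.beq (look T r) (look (gT.getD g 0) (look (prev.getD p 0) r))) ||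
      (List.range N).all fun r => Nat.beq (look T r) r) && chkDer N gT (prev ++ [T]) rest

/-- The generators are realised by words and preserve parities. -/
def chkGens (D : ChevalleyDatum) (X : Aux) (ev : ℕ) (gW : List (List ℕ)) (gT : List ℕ) : Bool :=
  Nat.beq gW.length gT.length && (gW.zip gT).all fun p => (p.1.all fun i => Nat.blt i D.rank) &&
    (List.range D.nroots).all fun r =>
      Nat.beq (look p.2 r) (wordAct X p.1 r) && (Nat.testBit ev (look p.2 r) == Nat.testBit ev r)

/-- The parity function of a mask. -/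
def vecOf (D : ChevalleyDatum) (n : ℕ) (j : Fin D.rank) : ZMod 2 := if Nat.testBit n j then 1 else 0

/-- A simple reflection on masks. -/
def stepN (mk : List ℕ) (n k : ℕ) : ℕ := if Nat.testBit n k then n ^^^ mk.getD k 0 else n

/-- The masks of the odd entries of the Cartan matrix. -/
def chkMasks (D : ChevalleyDatum) (mk : List ℕ) : Bool :=
  (List.range D.rank).all fun k => (List.range D.rank).all fun j =>
    Nat.testBit (mk.getD k 0) j == decide (D.cartan k (D.simple j) % 2 ≠ 0)

/-- A list of words moving a mask to distinct masks. -/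
def chkOrbit (l : ℕ) (mk : List ℕ) (v : ℕ) (ws : List (List ℕ)) : Bool :=
  (ws.all fun w => w.all fun i => Nat.blt i l) &&
    decide (ws.map fun w => (w.foldl (stepN mk) v) % 2 ^ l).Nodup

/-- The polynomial of a stage. -/
def stagePoly (N h em : ℕ) (Ts : List ℕ) : List ℤ :=
  (Ts.map fun T => List.replicate (tabInv N h em T) (0 : ℤ) ++ [1]).foldr padd []

/-- The product identity for the stage polynomials. -/
def chkTowerPoly (l N h em : ℕ) (st : List (ℕ × List ℕ)) (degs : List ℕ) : Bool :=
  (padd (pprod (List.replicate l (cyclo 1) ++ st.map fun p => stagePoly N h em p.2))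
    ((pprod (degs.map cyclo)).map ((-1 : ℤ) * ·))).all fun x => decide (x = 0)

theorem keyOf_testBit (N em pm T x : ℕ) :
    Nat.testBit (keyOf N em pm T) x = true ↔
      ∃ r < N, (Nat.testBit em r && !Nat.testBit pm r) = true ∧ look T r = x := by
  induction N with
  | zero => simp [keyOf]
  | succ N ih =>
    simp only [keyOf, List.range_succ, List.foldl_append, List.foldl_cons, List.foldl_nil] at ih ⊢
    cases h : (Nat.testBit em N && !Nat.testBit pm N) with
    | false =>
      rw [cond_false, ih]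
      exact ⟨fun ⟨r, hr, h1⟩ => ⟨r, by omega, h1⟩, fun ⟨r, hr, h1, h2⟩ => ⟨r, by
        rcases Nat.lt_succ_iff_lt_or_eq.1 hr with h' | rfl
        · exact h'
        · rw [h] at h1; exact absurd h1 (by decide), h1, h2⟩⟩
    | true =>
      rw [cond_true, Nat.testBit_or, Bool.or_eq_true, ih, Nat.testBit_two_pow, decide_eq_true_iff]
      constructor
      · rintro (⟨r, hr, h1⟩ | h1)
        · exact ⟨r, by omega, h1⟩
        · exact ⟨N, by omega, h, h1⟩
      · rintro ⟨r, hr, h1, h2⟩
        rcases Nat.lt_succ_iff_lt_or_eq.1 hr with h' | rfl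
        · exact Or.inl ⟨r, h', h1, h2⟩
        · exact Or.inr h2

theorem horner_monomial (q : ℤ) (n : ℕ) : horner q (List.replicate n 0 ++ [1]) = q ^ n := by
  induction n with
  | zero => simp [horner]
  | succ n ih => rw [List.replicate_succ, List.cons_append, horner, ih, pow_succ]; ring

theorem horner_foldr_padd (q : ℤ) : ∀ L : List (List ℤ), horner q (L.foldr padd []) = (L.map (horner q)).sum
  | [] => rfl
  | a :: L => by rw [List.foldr_cons, horner_padd, horner_foldr_padd q L]; rfl

variable {D : ChevalleyDatum} {X : Aux} {F : Type*} [Field F] {G : Type*} [Group G] (R : Rel D X F G)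

/-- The two masks describe the even roots and the even positive roots. -/
def MaskOK (D : ChevalleyDatum) (X : Aux) (v : Fin D.rank → ZMod 2) (em ev : ℕ) : Prop :=
  ∀ r : Fin D.nroots, (Nat.testBit ev r = true ↔ par X v r = 0) ∧
    (Nat.testBit em r = true ↔ half D ≤ (r : ℕ) ∧ par X v r = 0)

/-- A table realised by an element of the stabiliser. -/
def RealBy [Fintype R.WQ] (v : Fin D.rank → ZMod 2) (T : ℕ) (w : R.WQ) : Prop :=
  w ∈ parStab R v ∧ ∀ r : Fin D.nroots, (R.qact w r : ℕ) = look T r

theorem mem_parStab [Fintype R.WQ] {v : Fin D.rank → ZMod 2} {w : R.WQ} :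
    w ∈ parStab R v ↔ ∀ r, par X v (R.qact w r) = par X v r := by
  simp [parStab]

theorem mul_mem_parStab [Fintype R.WQ] {v : Fin D.rank → ZMod 2} {u w : R.WQ} (hu : u ∈ parStab R v)
    (hw : w ∈ parStab R v) : u * w ∈ parStab R v := by
  rw [mem_parStab] at *
  intro r
  rw [R.qact_mul_apply, hu, hw]

theorem one_mem_parStab [Fintype R.WQ] (v : Fin D.rank → ZMod 2) : (1 : R.WQ) ∈ parStab R v :=
  (mem_parStab R).2 fun r => by rw [map_one, Equiv.Perm.one_apply]

theorem real_gen [Fintype R.WQ] {v : Fin D.rank → ZMod 2} {em ev : ℕ} (hm : MaskOK D X v em ev)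
    {gW : List (List ℕ)} {gT : List ℕ} (h : chkGens D X ev gW gT = true) (g : ℕ) (hg : g < gT.length) :
    ∃ w, RealBy R v (gT.getD g 0) w := by
  simp only [chkGens, Bool.and_eq_true, nat_beq_iff, List.all_eq_true, List.mem_range, nat_blt_iff, beq_iff_eq] at h
  obtain ⟨hl, hz⟩ := h
  obtain ⟨hw, ht⟩ := hz (gW[g]'(hl ▸ hg), gT[g])
    (List.mem_iff_getElem.2 ⟨g, by simp [hl, hg], List.getElem_zip⟩)
  obtain ⟨l, hl'⟩ : ∃ l : List (Fin D.rank), (l.map fun i : Fin D.rank => (i : ℕ)) = gW[g]'(hl ▸ hg) :=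
    ⟨(gW[g]'(hl ▸ hg)).attach.map fun i => ⟨i.1, hw i.1 i.2⟩, by simp [List.map_map, Function.comp_def]⟩
  have he : ∀ r : Fin D.nroots, (R.qact (CfsgLib.Lie.Exchange.wprod R.qgen l) r : ℕ) = look (gT.getD g 0) r := by
    intro r
    rw [R.qact_wprod_apply, hl', List.getD_eq_getElem _ _ hg, (ht r r.2).1]
  refine ⟨_, (mem_parStab R).2 fun r => ?_, he⟩
  have h1 := (ht r r.2).2
  rw [(ht r r.2).1, ← hl', ← R.qact_wprod_apply] at h1
  rcases (by decide : ∀ x : ZMod 2, x = 0 ∨ x = 1) (par X v r) with e | e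
  · rw [e]
    exact (hm _).1.1 (h1.trans ((hm r).1.2 e))
  · rcases (by decide : ∀ x : ZMod 2, x = 0 ∨ x = 1) (par X v (R.qact (CfsgLib.Lie.Exchange.wprod R.qgen l) r)) with
      e' | e'
    · exact absurd ((hm r).1.1 (h1.symm.trans ((hm _).1.2 e'))) (e ▸ one_ne_zero)
    · rw [e, e']

theorem real_der [Fintype R.WQ] {v : Fin D.rank → ZMod 2} {em ev : ℕ} (hm : MaskOK D X v em ev)
    {gW : List (List ℕ)} {gT : List ℕ} (hg : chkGens D X ev gW gT = true) :
    ∀ (L : List (ℕ × ℕ × ℕ)) (prev : List ℕ), (∀ T ∈ prev, ∃ w, RealBy R v T w) →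
      chkDer D.nroots gT prev L = true → ∀ T ∈ L.map Prod.fst, ∃ w, RealBy R v T w
  | [], _, _, _ => by simp
  | (T, g, p) :: rest, prev, hprev, h => by
    simp only [chkDer, Bool.and_eq_true, Bool.or_eq_true, nat_blt_iff, List.all_eq_true, List.mem_range,
      nat_beq_iff] at h
    obtain ⟨h1, h2⟩ := h
    have hT : ∃ w, RealBy R v T w := by
      rcases h1 with ⟨⟨hg', hp⟩, h1⟩ | h1
      · obtain ⟨a, ha⟩ := real_gen R hm hg g hg'
        obtain ⟨b, hb⟩ := hprev (prev.getD p 0) (by rw [List.getD_eq_getElem _ _ hp]; exact List.getElem_mem _)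
        refine ⟨a * b, mul_mem_parStab R ha.1 hb.1, fun r => ?_⟩
        rw [R.qact_mul_apply, ha.2, hb.2, h1 r r.2]
      · exact ⟨1, one_mem_parStab R v, fun r => by rw [map_one, Equiv.Perm.one_apply, h1 r r.2]⟩
    intro T' hT'
    rw [List.map_cons, List.mem_cons] at hT'
    rcases hT' with rfl | hT'
    · exact hT
    · refine real_der hm hg rest (prev ++ [T]) (fun x hx => ?_) h2 T' hT'
      rcases List.mem_append.1 hx with hx | hx
      · exact hprev x hx
      · rw [List.mem_singleton.1 hx]; exact hT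

/-- The roots kept by every element at a level. -/
def levelSet (D : ChevalleyDatum) (em m : ℕ) : Finset (Fin D.nroots) :=
  Finset.univ.filter fun r => Nat.testBit em r = true ∧ Nat.testBit m r = false

theorem keyOf_eq [Fintype R.WQ] {v : Fin D.rank → ZMod 2} {em prev T T' : ℕ} {u u' : R.WQ} (hu : RealBy R v T u)
    (hu' : RealBy R v T' u')
    (h : (levelSet D em prev).image (R.qact u) = (levelSet D em prev).image (R.qact u')) :
    keyOf D.nroots em prev T = keyOf D.nroots em prev T' := by
  have key : ∀ (A B : ℕ) (a b : R.WQ), RealBy R v A a → RealBy R v B b →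
      (levelSet D em prev).image (R.qact a) ⊆ (levelSet D em prev).image (R.qact b) →
      ∀ x, Nat.testBit (keyOf D.nroots em prev A) x = true → Nat.testBit (keyOf D.nroots em prev B) x = true := by
    intro A B a b ha hb hab x hx
    obtain ⟨r, hr, h1, h2⟩ := (keyOf_testBit _ _ _ _ _).1 hx
    have hmem : R.qact a ⟨r, hr⟩ ∈ (levelSet D em prev).image (R.qact a) :=
      Finset.mem_image_of_mem _ (by simpa [levelSet] using h1)
    obtain ⟨s, hs, e⟩ := Finset.mem_image.1 (hab hmem)
    refine (keyOf_testBit _ _ _ _ _).2 ⟨s, s.2, by simpa [levelSet] using hs, ?_⟩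
    rw [← hb.2 s, e, ha.2, h2]
  refine Nat.eq_of_testBit_eq fun x => ?_
  rw [Bool.eq_iff_iff]
  exact ⟨key T T' u u' hu hu' h.le x, key T' T u' u hu' hu h.ge x⟩

/-- The elements built from the first stages. -/
def Built [Fintype R.WQ] (v : Fin D.rank → ZMod 2) (em : ℕ) (levels : List ℕ) (S : Finset R.WQ) : Prop :=
  ∀ w ∈ S, w ∈ parStab R v ∧ ∀ m ∈ levels, ∀ r ∈ levelSet D em m, R.qact w r ∈ levelSet D em m

theorem image_levelSet [Fintype R.WQ] {em m : ℕ} {w : R.WQ}
    (h : ∀ r ∈ levelSet D em m, R.qact w r ∈ levelSet D em m) : (levelSet D em m).image (R.qact w) = levelSet D em m :=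
  Finset.eq_of_subset_of_card_le (fun x hx => by obtain ⟨r, hr, rfl⟩ := Finset.mem_image.1 hx; exact h r hr)
    (by rw [Finset.card_image_of_injective _ (R.qact w).injective])

theorem evenInv_mul [Fintype R.WQ] {v : Fin D.rank → ZMod 2} {em ev prev : ℕ} (hm : MaskOK D X v em ev)
    {u w : R.WQ} (hu : ∀ r : Fin D.nroots, Nat.testBit em r = true → Nat.testBit prev r = true →
      half D ≤ (R.qact u r : ℕ))
    (hwp : w ∈ parStab R v) (hw : ∀ r ∈ levelSet D em prev, R.qact w r ∈ levelSet D em prev)
    (hw0 : ∀ r ∈ levelSet D em prev, half D ≤ (R.qact w r : ℕ)) :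
    evenInv X v (R.qact (u * w)) = evenInv X v (R.qact u) + evenInv X v (R.qact w) := by
  classical
  obtain ⟨Q, hQ⟩ : ∃ Q, Q = levelSet D em prev := ⟨_, rfl⟩
  rw [← hQ] at hw hw0
  have himg : Q.image (R.qact w) = Q := hQ ▸ image_levelSet R (hQ ▸ hw)
  obtain ⟨I, hI⟩ : ∃ I : R.WQ → Finset (Fin D.nroots), ∀ x, I x = Finset.univ.filter
      fun r : Fin D.nroots => half D ≤ (r : ℕ) ∧ ¬ half D ≤ (R.qact x r : ℕ) ∧ par X v r = 0 := ⟨_, fun _ => rfl⟩
  have hcard : ∀ x, evenInv X v (R.qact x) = (I x).card := fun x => by rw [hI]; rfl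
  have hmemI : ∀ x r, r ∈ I x ↔ half D ≤ (r : ℕ) ∧ ¬ half D ≤ (R.qact x r : ℕ) ∧ par X v r = 0 := fun x r => by
    rw [hI]; simp
  have hIu : I u ⊆ Q := fun r hr => by
    obtain ⟨h1, h2, h3⟩ := (hmemI u r).1 hr
    rw [hQ, levelSet, Finset.mem_filter]
    refine ⟨Finset.mem_univ _, (hm r).2.2 ⟨h1, h3⟩, ?_⟩
    by_contra h
    exact h2 (hu r ((hm r).2.2 ⟨h1, h3⟩) (by simpa using h))
  have hIw : ∀ r ∈ I w, r ∉ Q := fun r hr hQr => ((hmemI w r).1 hr).2.1 (hw0 r hQr)
  have e : I (u * w) = (I u).map (R.qact w⁻¹).toEmbedding ∪ I w := by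
    ext r
    simp only [Finset.mem_union, Finset.mem_map_equiv, hmemI]
    rw [show (R.qact w⁻¹).symm r = R.qact w r from by
      rw [Equiv.symm_apply_eq, R.qact_apply_inv], R.qact_mul_apply]
    constructor
    · rintro ⟨h1, h2, h3⟩
      by_cases h4 : half D ≤ (R.qact w r : ℕ)
      · exact Or.inl ⟨h4, h2, ((mem_parStab R).1 hwp r).trans h3⟩
      · exact Or.inr ⟨h1, h4, h3⟩
    · rintro (⟨h1, h2, h3⟩ | ⟨h1, h2, h3⟩)
      · have hQw : R.qact w r ∈ Q := hIu ((hmemI u _).2 ⟨h1, h2, h3⟩)
        obtain ⟨s, hs, hs'⟩ := Finset.mem_image.1 (himg.symm ▸ hQw)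
        rw [(R.qact w).injective hs'] at hs
        rw [hQ, levelSet, Finset.mem_filter] at hs
        exact ⟨((hm r).2.1 hs.2.1).1, h2, ((hm r).2.1 hs.2.1).2⟩
      · refine ⟨h1, ?_, h3⟩
        have hpar : par X v (R.negF (R.qact w r)) = 0 := by
          rw [plin_par R v (R.negF (R.qact w r))]
          have := plin_par R v (R.qact w r)
          rw [(mem_parStab R).1 hwp r, h3] at this
          rw [show (0 : ZMod 2) = -0 from neg_zero.symm, this, ← Finset.sum_neg_distrib]
          exact Finset.sum_congr rfl fun j _ => by rw [coef_negF R, Int.cast_neg, neg_mul]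
        have hpos := (R.negF_pos_iff _).2 h2
        have hnot : R.negF (R.qact w r) ∉ Q := fun hc => by
          obtain ⟨s, hs, hs'⟩ := Finset.mem_image.1 (himg.symm ▸ hc)
          have : r = R.negF s := (R.qact w).injective (by rw [R.qact_negF, hs', R.negF_negF])
          rw [hQ, levelSet, Finset.mem_filter] at hs
          exact (R.negF_pos_iff s).1 (this ▸ h1) ((hm s).2.1 hs.2.1).1
        have hup : half D ≤ (R.qact u (R.negF (R.qact w r)) : ℕ) := by
          by_contra h
          exact hnot (hIu ((hmemI u _).2 ⟨hpos, h, hpar⟩))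
        rw [R.qact_negF, R.negF_pos_iff] at hup
        exact hup
  rw [hcard, hcard, hcard, e, Finset.card_union_of_disjoint, Finset.card_map]
  rw [Finset.disjoint_left]
  intro r hr hr'
  rw [Finset.mem_map_equiv] at hr
  rw [show (R.qact w⁻¹).symm r = R.qact w r from by rw [Equiv.symm_apply_eq, R.qact_apply_inv]] at hr
  exact ((hmemI w r).1 hr').2.1 ((hmemI u _).1 hr).1

theorem tabInv_eq [Fintype R.WQ] {v : Fin D.rank → ZMod 2} {em ev T : ℕ} (hm : MaskOK D X v em ev) {u : R.WQ}
    (hu : RealBy R v T u) : evenInv X v (R.qact u) = tabInv D.nroots (half D) em T := by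
  classical
  rw [tabInv, List.countP_eq_length_filter, ← List.toFinset_card_of_nodup (List.nodup_range.filter _),
    evenInv, ← Finset.card_map Fin.valEmbedding]
  refine congrArg Finset.card (Finset.ext fun r => ?_)
  simp only [Finset.mem_map, Finset.mem_filter, Finset.mem_univ, true_and, Fin.valEmbedding_apply,
    List.mem_toFinset, List.mem_filter, List.mem_range, Bool.and_eq_true, nat_blt_iff]
  constructor
  · rintro ⟨s, ⟨h1, h2, h3⟩, rfl⟩
    exact ⟨s.2, (hm s).2.2 ⟨h1, h3⟩, by rw [← hu.2]; omega⟩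
  · rintro ⟨hr, h1, h2⟩
    refine ⟨⟨r, hr⟩, ⟨((hm ⟨r, hr⟩).2.1 h1).1, ?_, ((hm ⟨r, hr⟩).2.1 h1).2⟩, rfl⟩
    have := hu.2 ⟨r, hr⟩
    simp only at this
    omega

theorem tower [Fintype R.WQ] {v : Fin D.rank → ZMod 2} {em ev : ℕ} (hm : MaskOK D X v em ev) (q : ℤ) :
    ∀ (st : List (ℕ × List ℕ)) (prev : ℕ) (S : Finset R.WQ), chkStages D.nroots (half D) em prev st = true →
      (∀ p ∈ st, ∀ T ∈ p.2, ∃ w, RealBy R v T w) → Built R v em (prev :: st.map Prod.fst) S →
      (∀ w ∈ S, ∀ r ∈ levelSet D em prev, half D ≤ (R.qact w r : ℕ)) →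
      ∃ S' : Finset R.WQ, S' ⊆ parStab R v ∧ S'.card = S.card * (st.map fun p => p.2.length).prod ∧
        ∑ w ∈ S', q ^ evenInv X v (R.qact w) = (∑ w ∈ S, q ^ evenInv X v (R.qact w)) *
          (st.map fun p => horner q (stagePoly D.nroots (half D) em p.2)).prod
  | [], _, S, _, _, hS, _ => ⟨S, fun w hw => (hS w hw).1, by simp, by simp⟩
  | (m, Ts) :: rest, prev, S, h, hreal, hS, hpos => by
    classical
    simp only [chkStages, chkStage, Bool.and_eq_true, List.all_eq_true, decide_eq_true_iff, List.mem_range,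
      Bool.or_eq_true, nat_ble_iff, Bool.not_eq_true', Bool.and_eq_false_iff, Bool.not_eq_false'] at h
    obtain ⟨⟨hT, hnd⟩, hrest⟩ := h
    choose f hf using hreal (m, Ts) List.mem_cons_self
    obtain ⟨U, hU⟩ : ∃ U : Finset R.WQ, U = Ts.attach.toFinset.image fun T => f T.1 T.2 := ⟨_, rfl⟩
    have hkey : ∀ (T : ℕ) (hT₁ : T ∈ Ts) (T' : ℕ) (hT₂ : T' ∈ Ts) (w w' : R.WQ), w ∈ S → w' ∈ S →
        f T hT₁ * w = f T' hT₂ * w' → T = T' ∧ w = w' := by
      intro T hT₁ T' hT₂ w w' hw hw' e
      have e1 : (levelSet D em prev).image (R.qact (f T hT₁)) = (levelSet D em prev).image (R.qact (f T' hT₂)) := by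
        conv_lhs => rw [← image_levelSet R ((hS w hw).2 prev List.mem_cons_self)]
        conv_rhs => rw [← image_levelSet R ((hS w' hw').2 prev List.mem_cons_self)]
        rw [Finset.image_image, Finset.image_image, ← Equiv.Perm.coe_mul, ← Equiv.Perm.coe_mul, ← map_mul,
          ← map_mul, e]
      obtain rfl : T = T' := List.inj_on_of_nodup_map hnd hT₁ hT₂ (keyOf_eq R (hf T hT₁) (hf T' hT₂) e1)
      exact ⟨rfl, mul_left_cancel e⟩
    have hinj : Set.InjOn (fun p : {T // T ∈ Ts} × R.WQ => f p.1.1 p.1.2 * p.2)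
        ↑(Ts.attach.toFinset ×ˢ S) := by
      rintro ⟨⟨T, h1⟩, w⟩ hw ⟨⟨T', h1'⟩, w'⟩ hw' e
      simp only [Finset.coe_product, Set.mem_prod, Finset.mem_coe] at hw hw'
      obtain ⟨rfl, rfl⟩ := hkey T h1 T' h1' w w' hw.2 hw'.2 e
      rfl
    obtain ⟨S₁, hS₁⟩ : ∃ S₁, S₁ = (Ts.attach.toFinset ×ˢ S).image fun p => f p.1.1 p.1.2 * p.2 := ⟨_, rfl⟩
    have hlv : ∀ (T : ℕ) (hT₁ : T ∈ Ts), ∀ k ∈ m :: rest.map Prod.fst, ∀ r ∈ levelSet D em k,
        R.qact (f T hT₁) r ∈ levelSet D em k := by
      intro T hT₁ k hk r hr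
      simp only [levelSet, Finset.mem_filter, Finset.mem_univ, true_and] at hr ⊢
      rcases (hT T hT₁).2 k hk r r.2 with (h | h) | h
      · rw [hr.1] at h; exact absurd h (by decide)
      · rw [hr.2] at h; exact absurd h (by decide)
      · rw [(hf T hT₁).2]; exact h
    have hB : Built R v em (m :: rest.map Prod.fst) S₁ := by
      intro x hx
      rw [hS₁, Finset.mem_image] at hx
      obtain ⟨⟨⟨T, h1⟩, w⟩, hw, rfl⟩ := hx
      rw [Finset.mem_product] at hw
      refine ⟨mul_mem_parStab R (hf T h1).1 (hS w hw.2).1, fun k hk r hr => ?_⟩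
      rw [R.qact_mul_apply]
      exact hlv T h1 k hk _ ((hS w hw.2).2 k (List.mem_cons_of_mem _ hk) r hr)
    have hB' : ∀ x ∈ S₁, ∀ r ∈ levelSet D em m, half D ≤ (R.qact x r : ℕ) := fun x hx r hr => by
      have := (hB x hx).2 m List.mem_cons_self r hr
      simp only [levelSet, Finset.mem_filter, Finset.mem_univ, true_and] at this
      exact ((hm _).2.1 this.1).1
    obtain ⟨S', h1, h2, h3⟩ := tower hm q rest m S₁ hrest (fun p hp => hreal p (List.mem_cons_of_mem _ hp)) hB hB'
    have hcard : S₁.card = S.card * Ts.length := by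
      rw [hS₁, Finset.card_image_of_injOn hinj, Finset.card_product,
        List.toFinset_card_of_nodup (List.nodup_attach.2 (List.Nodup.of_map _ hnd)), List.length_attach, mul_comm]
    refine ⟨S', h1, by rw [h2, hcard, List.map_cons, List.prod_cons, mul_assoc], ?_⟩
    rw [h3, List.map_cons, List.prod_cons, ← mul_assoc]
    congr 1
    rw [hS₁, Finset.sum_image hinj, Finset.sum_product, mul_comm, stagePoly, horner_foldr_padd, List.map_map,
      ← List.sum_map_mul_right]
    rw [List.sum_toFinset _ (List.nodup_attach.2 (List.Nodup.of_map _ hnd))]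
    conv_rhs => rw [← List.attach_map_subtype_val Ts]
    rw [List.map_map]
    refine congrArg List.sum (List.map_congr_left fun T _ => ?_)
    simp only [Function.comp_apply, horner_monomial, Finset.mul_sum]
    refine Finset.sum_congr rfl fun w hw => ?_
    rw [evenInv_mul R hm (u := f T.1 T.2) (w := w) (prev := prev) (fun r hr1 hr2 => ?_) (hS w hw).1
      ((hS w hw).2 prev List.mem_cons_self) (hpos w hw), pow_add, tabInv_eq R hm (hf T.1 T.2)]
    rw [(hf T.1 T.2).2]
    rcases (hT T.1 T.2).1 r r.2 with (h | h) | h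
    · rw [hr1] at h; exact absurd h (by decide)
    · rw [hr2] at h; exact absurd h (by decide)
    · exact h

theorem stepV_vecOf {mk : List ℕ} (hmk : chkMasks D mk = true) (n : ℕ) (k : Fin D.rank) :
    stepV D k (vecOf D n) = vecOf D (stepN mk n k) := by
  simp only [chkMasks, List.all_eq_true, List.mem_range, beq_iff_eq] at hmk
  funext j
  have h := hmk k k.2 j j.2
  have hc : ((D.cartan k (D.simple j) : ℤ) : ZMod 2) = if Nat.testBit (mk.getD k 0) j then 1 else 0 := by
    rw [h]
    rcases Int.even_or_odd (D.cartan k (D.simple j)) with e | e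
    · rw [(ZMod.intCast_eq_zero_iff_even).2 e]; simp [Int.even_iff.1 e]
    · rw [(ZMod.intCast_eq_one_iff_odd).2 e]; simp [Int.odd_iff.1 e]
  simp only [stepV, vecOf, hc, stepN]
  by_cases hk : Nat.testBit n k = true
  swap
  · simp [hk]
  · simp only [hk, if_true, Nat.testBit_xor]
    cases Nat.testBit n j <;> cases Nat.testBit (mk.getD k 0) j <;> simp <;> decide

theorem vecOf_mod (n : ℕ) : vecOf D (n % 2 ^ D.rank) = vecOf D n := funext fun j => by
  simp [vecOf, Nat.testBit_mod_two_pow, j.2]

theorem par_stepV (v : Fin D.rank → ZMod 2) (k : Fin D.rank) (r : Fin D.nroots) :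
    par X (stepV D k v) r = par X v (R.wperm k r) := by
  refine (Finset.sum_congr rfl fun j _ => ?_).trans (plin_comp R (plin_par R v) (R.isLin_wperm k) r).symm
  show _ = _ * par X v (R.wperm k (R.sroot j))
  rw [plin_wperm R (plin_par R v), par_sroot, par_sroot]
  rfl

/-- The element moving a mask along a word. -/
theorem exists_mover {mk : List ℕ} (hmk : chkMasks D mk = true) : ∀ (w : List ℕ), (∀ i ∈ w, i < D.rank) → ∀ n : ℕ,
    ∃ g : R.WQ, ∀ r, par X (vecOf D (w.foldl (stepN mk) n)) r = par X (vecOf D n) (R.qact g r)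
  | [], _, n => ⟨1, fun r => by rw [map_one, Equiv.Perm.one_apply]; rfl⟩
  | k :: w, hw, n => by
    obtain ⟨g, hg⟩ := exists_mover hmk w (fun i hi => hw i (List.mem_cons_of_mem _ hi)) (stepN mk n k)
    refine ⟨R.qgen ⟨k, hw k List.mem_cons_self⟩ * g, fun r => ?_⟩
    rw [List.foldl_cons, hg, R.qact_mul_apply, R.qact_qgen, ← stepV_vecOf hmk n ⟨k, hw k List.mem_cons_self⟩,
      par_stepV R]

theorem vecOf_inj {a b : ℕ} (ha : a < 2 ^ D.rank) (hb : b < 2 ^ D.rank) (h : vecOf D a = vecOf D b) : a = b := by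
  refine Nat.eq_of_testBit_eq fun i => ?_
  by_cases hi : i < D.rank
  · have := congrFun h ⟨i, hi⟩
    simp only [vecOf] at this
    cases h1 : Nat.testBit a i <;> cases h2 : Nat.testBit b i <;> simp [h1, h2] at this ⊢
  · rw [Nat.testBit_lt_two_pow (ha.trans_le (Nat.pow_le_pow_right two_pos (not_lt.1 hi))),
      Nat.testBit_lt_two_pow (hb.trans_le (Nat.pow_le_pow_right two_pos (not_lt.1 hi)))]

theorem card_orbit_mul_le [Fintype R.WQ] {mk : List ℕ} (hmk : chkMasks D mk = true) {n : ℕ} {ws : List (List ℕ)}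
    (hws : chkOrbit D.rank mk n ws = true) : ws.length * (parStab R (vecOf D n)).card ≤ Fintype.card R.WQ := by
  classical
  simp only [chkOrbit, Bool.and_eq_true, List.all_eq_true, nat_blt_iff, decide_eq_true_iff] at hws
  choose g hg using fun i : Fin ws.length =>
    exists_mover R hmk (ws.get i) (hws.1 _ (List.get_mem _ _)) n
  rw [← Fintype.card_fin ws.length, ← Fintype.card_coe, ← Fintype.card_prod]
  refine Fintype.card_le_of_injective (fun p : Fin ws.length × ↥(parStab R (vecOf D n)) => (p.2 : R.WQ)⁻¹ * g p.1)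
    fun p p' e => ?_
  simp only at e
  have hinv : ∀ w : ↥(parStab R (vecOf D n)), ∀ r, par X (vecOf D n) (R.qact (w : R.WQ)⁻¹ r) = par X (vecOf D n) r :=
    fun w r => by
      conv_rhs => rw [← R.qact_inv_apply (w : R.WQ) r, (mem_parStab R).1 w.2]
  have e1 : p.1 = p'.1 := by
    refine Fin.ext ((List.Nodup.getElem_inj_iff hws.2 (hi := by simp) (hj := by simp)).1 ?_)
    · rw [List.getElem_map, List.getElem_map]
      refine vecOf_inj (D := D) (Nat.mod_lt _ (by positivity)) (Nat.mod_lt _ (by positivity)) (funext fun k => ?_)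
      rw [vecOf_mod, vecOf_mod, ← par_sroot R (vecOf D _) k, ← par_sroot R (vecOf D (List.foldl _ _ ws[(p'.1 : ℕ)])) k]
      rw [show ws[(p.1 : ℕ)] = ws.get p.1 from rfl, show ws[(p'.1 : ℕ)] = ws.get p'.1 from rfl, hg, hg,
        ← hinv p.2, ← R.qact_mul_apply, e, R.qact_mul_apply, hinv]
  exact Prod.ext e1 (Subtype.ext (inv_injective (mul_right_cancel (e1 ▸ e : (p.2 : R.WQ)⁻¹ * g p'.1 = _ * g p'.1))))

theorem card_WQ [Fintype R.WQ] {M : List (List ℤ)} (hM : cmat D = M) :
    Fintype.card R.WQ = ((chainCounts M D.rank (half D) [] (List.range D.rank).reverse).map List.sum).prod := by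
  have h := R.sum_pow_inv (1 : ℕ) (List.range D.rank).reverse
    (fun j hj => List.mem_range.1 (List.mem_reverse.1 hj)) (fun i hi => List.mem_reverse.2 (List.mem_range.2 hi))
  simp only [one_pow, Finset.sum_const, Finset.card_univ, smul_eq_mul, mul_one, hM] at h
  rw [h]
  refine congrArg List.prod (List.map_congr_left fun cs _ => ?_)
  unfold polyVal
  simp [List.zipIdx_map_fst]

/-- The length polynomial of the stabiliser from the tables. -/
theorem parStab_poly [Fintype R.WQ] {M : List (List ℤ)} (hM : cmat D = M) {n em ev : ℕ} {mk : List ℕ}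
    {ws gW : List (List ℕ)} {gT : List ℕ} {der : List (ℕ × ℕ × ℕ)} {st : List (ℕ × List ℕ)} {degs : List ℕ}
    (hmask : MaskOK D X (vecOf D n) em ev) (hmk : chkMasks D mk = true) (hws : chkOrbit D.rank mk n ws = true)
    (hg : chkGens D X ev gW gT = true) (hd : chkDer D.nroots gT [] der = true)
    (hsub : (st.all fun p => p.2.all fun T => (der.map Prod.fst).contains T) = true)
    (hst : chkStages D.nroots (half D) em 0 st = true)
    (hcard : ((chainCounts M D.rank (half D) [] (List.range D.rank).reverse).map List.sum).prod =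
      ws.length * (st.map fun p => p.2.length).prod)
    (hpoly : chkTowerPoly D.rank D.nroots (half D) em st degs = true) (q : ℤ) :
    (q - 1) ^ D.rank * ∑ w ∈ parStab R (vecOf D n), q ^ evenInv X (vecOf D n) (R.qact w) =
      (degs.map fun d => q ^ d - 1).prod := by
  classical
  simp only [List.all_eq_true, List.contains_iff_mem] at hsub
  obtain ⟨S', h1, h2, h3⟩ := tower R hmask q st 0 {1} hst
    (fun p hp T hT => real_der R hmask hg der [] (by simp) hd T (hsub p hp T hT))
    (fun w hw => by
      rw [Finset.mem_singleton] at hw; subst hw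
      exact ⟨one_mem_parStab R _, fun m _ r hr => by rwa [map_one, Equiv.Perm.one_apply]⟩)
    (fun w hw r hr => by
      rw [Finset.mem_singleton] at hw; subst hw
      rw [levelSet, Finset.mem_filter] at hr
      rw [map_one, Equiv.Perm.one_apply]
      exact ((hmask r).2.1 hr.2.1).1)
  have hle := card_orbit_mul_le R hmk hws
  rw [card_WQ R hM, hcard] at hle
  have hpos : 0 < ws.length := by
    rcases Nat.eq_zero_or_pos ws.length with h | h
    · rw [h, zero_mul, ← card_WQ R hM] at hcard
      exact absurd hcard Fintype.card_ne_zero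
    · exact h
  have hS : S' = parStab R (vecOf D n) := by
    refine Finset.eq_of_subset_of_card_le h1 ?_
    rw [h2, Finset.card_singleton, one_mul]
    exact Nat.le_of_mul_le_mul_left hle hpos
  rw [← hS, h3, Finset.sum_singleton, show evenInv X (vecOf D n) (R.qact 1) = 0 from ?_, pow_zero, one_mul]
  · simp only [chkTowerPoly, List.all_eq_true, decide_eq_true_eq] at hpoly
    have h0 := horner_zero q _ hpoly
    rw [horner_padd, horner_map] at h0
    have h : horner q (pprod (List.replicate D.rank (cyclo 1) ++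
        st.map fun p => stagePoly D.nroots (half D) em p.2)) = horner q (pprod (degs.map cyclo)) := by
      linear_combination h0
    rw [horner_pprod, horner_pprod, List.map_append, List.prod_append, List.map_replicate, List.prod_replicate,
      horner_cyclo, pow_one, List.map_map, List.map_map] at h
    exact h.trans (congrArg List.prod (List.map_congr_left fun d _ => horner_cyclo q d))
  · rw [evenInv, Finset.card_eq_zero, Finset.filter_eq_empty_iff]
    intro r _ h
    rw [map_one, Equiv.Perm.one_apply] at h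
    exact h.2.1 h.1

end CfsgLib.Lie.OddInvolution
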