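import Cfsg.Agent.Lib.Lie.OddInvolution.Assembly
import Cfsg.Agent.Lib.Lie.OddInvolution.DataE8A
import Cfsg.Agent.Lib.Lie.OddInvolution.DataE8B

/-!
# Involutions of type E8 in odd characteristic
-/

set_option autoImplicit false

namespace CfsgLib.Lie.OddInvolution.E8

open CfsgLib.Lie.Chev

/-- The masks of the simple reflections. -/
def mk : List ℕ := [4, 8, 9, 22, 40, 80, 160, 64]

theorem okMasks : chkMasks Cfsg.Lie.chevE8 mk = true := by decide +kernel

theorem cartanOK : CartanOK Cfsg.Lie.chevE8 := ⟨by decide +kernel, by decide +kernel⟩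

theorem okCoverage : chkCoverage Cfsg.Lie.chevE8.rank mk E8A.msk E8B.msk E8A.ws E8B.ws = true := by decide +kernel

theorem classDataA : ClassData Cfsg.Lie.chevE8 auxE8 cartE8 mk E8A.msk 56 E8A.degs E8A.ws where
  ne_zero := by decide +kernel
  pos := by decide
  evenPos_eq := E8A.okPos
  orbit := E8A.okOrbit
  poly := fun R _ q => parStab_poly R cmat_E8 E8A.okMask okMasks E8A.okOrbit E8A.okGens E8A.okDer E8A.okSub
    E8A.okStages E8A.okCard E8A.okPoly q

theorem classDataB : ClassData Cfsg.Lie.chevE8 auxE8 cartE8 mk E8B.msk 64 E8B.degs E8B.ws where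
  ne_zero := by decide +kernel
  pos := by decide
  evenPos_eq := E8B.okPos
  orbit := E8B.okOrbit
  poly := fun R _ q => parStab_poly R cmat_E8 E8B.okMask okMasks E8B.okOrbit E8B.okGens E8B.okDer E8B.okSub
    E8B.okStages E8B.okCard E8B.okPoly q

/-- The two classes of involutions and the orders of their centralisers. -/
theorem classes {F : Type*} [Field F] [Fintype F] (hF : Odd (Fintype.card F)) :
    ∃ s t : ↥(Cfsg.Lie.chevE8.group F), orderOf s = 2 ∧ orderOf t = 2 ∧ ¬ IsConj s t ∧
      (∀ u : ↥(Cfsg.Lie.chevE8.group F), orderOf u = 2 → IsConj u s ∨ IsConj u t) ∧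
      Nat.card (Subgroup.centralizer ({s} : Set ↥(Cfsg.Lie.chevE8.group F))) =
        Fintype.card F ^ 56 * (([2, 4, 6, 8, 8, 10, 12, 14] : List ℕ).map fun k => Fintype.card F ^ k - 1).prod ∧
      Nat.card (Subgroup.centralizer ({t} : Set ↥(Cfsg.Lie.chevE8.group F))) =
        Fintype.card F ^ 64 * (([2, 2, 6, 8, 10, 12, 14, 18] : List ℕ).map fun k => Fintype.card F ^ k - 1).prod :=
  involution_classes certE8 cmat_E8 smithE8 (by decide) cartanOK okMasks classDataA classDataB (by decide)
    okCoverage hF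

end CfsgLib.Lie.OddInvolution.E8
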