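import Cfsg.Agent.Lib.Lie.OddInvolution.Classes
import Cfsg.Agent.Lib.Lie.OddInvolution.Tower
import Cfsg.Agent.Lib.Lie.Rel.OrderData

/-!
# Two classes of involutions from two certified parity functions
-/

set_option autoImplicit false
set_option maxHeartbeats 800000

namespace CfsgLib.Lie.OddInvolution

open Cfsg.Lie (ChevalleyDatum)
open CfsgLib.Lie.Chev

/-- The certified data of one parity function. -/
structure ClassData (D : ChevalleyDatum) (X : Aux) (M : List (List ℤ)) (mk : List ℕ) (n N : ℕ) (degs : List ℕ)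
    (ws : List (List ℕ)) : Prop where
  ne_zero : vecOf D n ≠ 0
  pos : ∀ d ∈ degs, 0 < d
  evenPos_eq : evenPos D X (vecOf D n) = N
  orbit : chkOrbit D.rank mk n ws = true
  poly : ∀ {F : Type} [Field F] {G : Type} [Group G] (R : Rel D X F G) [Fintype R.WQ] (q : ℤ),
    (q - 1) ^ D.rank * ∑ w ∈ parStab R (vecOf D n), q ^ evenInv X (vecOf D n) (R.qact w) =
      (degs.map fun d => q ^ d - 1).prod

/-- The nonzero masks are reached from the two base masks. -/
def chkCoverage (l : ℕ) (mk : List ℕ) (a b : ℕ) (wa wb : List (List ℕ)) : Bool :=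
  (List.range (2 ^ l)).all fun x => Nat.beq x 0 || (wa.map fun w => (w.foldl (stepN mk) a) % 2 ^ l).contains x ||
    (wb.map fun w => (w.foldl (stepN mk) b) % 2 ^ l).contains x

theorem exists_mask : ∀ (l : ℕ) (v : ℕ → Bool), ∃ n < 2 ^ l, ∀ j < l, Nat.testBit n j = v j
  | 0, _ => ⟨0, one_pos, fun j hj => absurd hj (Nat.not_lt_zero j)⟩
  | l + 1, v => by
    obtain ⟨n, hn, h⟩ := exists_mask l fun j => v (j + 1)
    refine ⟨Nat.bit (v 0) n, ?_, fun j hj => ?_⟩
    · rw [Nat.bit_val, pow_succ]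
      cases v 0 <;> simp <;> omega
    · cases j with
      | zero => rw [Nat.testBit_bit_zero]
      | succ j => rw [Nat.testBit_bit_succ]; exact h j (by omega)

variable {D : ChevalleyDatum} {X : Aux} {F : Type*} [Field F] {G : Type*} [Group G] (R : Rel D X F G)

theorem isConj_word {mk : List ℕ} (hmk : chkMasks D mk = true) : ∀ (w : List ℕ), (∀ i ∈ w, i < D.rank) → ∀ (n : ℕ)
    (g : G), IsT R (vecOf D n) g → ∃ h, IsT R (vecOf D (w.foldl (stepN mk) n)) h ∧ IsConj g h
  | [], _, n, g, hg => ⟨g, hg, IsConj.refl g⟩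
  | k :: w, hw, n, g, hg => by
    obtain ⟨h, h1, h2⟩ := isConj_word hmk w (fun i hi => hw i (List.mem_cons_of_mem _ hi)) (stepN mk n k) _
      (stepV_vecOf hmk n ⟨k, hw k List.mem_cons_self⟩ ▸ isT_step R (k := ⟨k, hw k List.mem_cons_self⟩) hg)
    exact ⟨h, h1, (isConj_iff.2 ⟨_, rfl⟩).trans h2⟩

theorem pow_mul_prod_ne {q a b : ℕ} (hq : 1 < q) (hab : a ≠ b) {A B : List ℕ} (hA : ∀ d ∈ A, 0 < d)
    (hB : ∀ d ∈ B, 0 < d) : q ^ a * (A.map fun d => q ^ d - 1).prod ≠ q ^ b * (B.map fun d => q ^ d - 1).prod := by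
  have hunit : ∀ L : List ℕ, (∀ d ∈ L, 0 < d) → ¬ q ∣ (L.map fun d => q ^ d - 1).prod := by
    intro L hL h
    rw [← ZMod.natCast_eq_zero_iff, Nat.cast_list_prod, List.map_map] at h
    haveI : Fact (1 < q) := ⟨hq⟩
    have e : L.map ((fun x : ℕ => (x : ZMod q)) ∘ fun d => q ^ d - 1) = L.map fun _ => (-1 : ZMod q) :=
      List.map_congr_left fun d hd => by
        simp [Nat.cast_sub (Nat.one_le_pow d q (by omega)), zero_pow (hL d hd).ne']
    rw [e, List.map_const', List.prod_replicate] at h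
    exact ((isUnit_one.neg).pow L.length).ne_zero h
  intro e
  rcases Nat.lt_or_gt_of_ne hab with h | h
  · obtain ⟨k, rfl⟩ := Nat.exists_eq_add_of_lt h
    rw [pow_succ, pow_add, mul_assoc, mul_assoc] at e
    exact hunit A hA (by rw [mul_left_cancel₀ (pow_ne_zero _ (by omega)) e]; exact dvd_mul_of_dvd_right (dvd_mul_right _ _) _)
  · obtain ⟨k, rfl⟩ := Nat.exists_eq_add_of_lt h
    rw [pow_succ, pow_add, mul_assoc, mul_assoc] at e
    exact hunit B hB (by rw [← mul_left_cancel₀ (pow_ne_zero _ (by omega)) e]; exact dvd_mul_of_dvd_right (dvd_mul_right _ _) _)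

variable (C : Cert D X) [Fintype F]

/-- The sum over the stabiliser only depends on the action on roots. -/
theorem parStab_sum_eq {G₁ : Type*} [Group G₁] {F₁ : Type*} [Field F₁] (R₁ : Rel D X F₁ G₁) [Fintype R.WQ]
    [Fintype R₁.WQ] (v : Fin D.rank → ZMod 2) (q : ℤ) :
    ∑ w ∈ parStab R v, q ^ evenInv X v (R.qact w) = ∑ w ∈ parStab R₁ v, q ^ evenInv X v (R₁.qact w) := by
  classical
  have hex : ∀ w : R.WQ, ∃ w₁ : R₁.WQ, R₁.qact w₁ = R.qact w := fun w => by
    obtain ⟨l, rfl⟩ := R.qgen_genInv.gen w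
    exact ⟨CfsgLib.Lie.Exchange.wprod R₁.qgen l, Equiv.ext fun s => Fin.ext (by
      rw [R.qact_wprod_apply, R₁.qact_wprod_apply])⟩
  have hex₁ : ∀ w : R₁.WQ, ∃ w₀ : R.WQ, R.qact w₀ = R₁.qact w := fun w => by
    obtain ⟨l, rfl⟩ := R₁.qgen_genInv.gen w
    exact ⟨CfsgLib.Lie.Exchange.wprod R.qgen l, Equiv.ext fun s => Fin.ext (by
      rw [R.qact_wprod_apply, R₁.qact_wprod_apply])⟩
  choose f hf using hex
  choose g hg using hex₁
  refine Finset.sum_bij' (fun w _ => f w) (fun w _ => g w) (fun w hw => ?_) (fun w hw => ?_)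
    (fun w _ => R.qact_injective (by rw [hg, hf])) (fun w _ => R₁.qact_injective (by rw [hf, hg])) (fun w _ => by rw [hf])
  · rw [mem_parStab] at hw ⊢; rwa [hf]
  · rw [mem_parStab] at hw ⊢; rwa [hg]

theorem centralizer_of_data {M : List (List ℤ)} {mk : List ℕ} {n N : ℕ} {degs : List ℕ} {ws : List (List ℕ)}
    (hC : CartanOK D) (hker : TorusInj (chevRel C F)) (h2 : (2 : F) ≠ 0) (hd : ClassData D X M mk n N degs ws)
    {t : ↥(D.group F)} (ht : IsT (chevRel C F) (vecOf D n) t) :
    Nat.card (Subgroup.centralizer ({t} : Set ↥(D.group F))) =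
      Fintype.card F ^ N * (degs.map fun d => Fintype.card F ^ d - 1).prod := by
  classical
  have := (chevRel C F).rootPerm.finite
  let _ : Fintype (chevRel C F).WQ := Fintype.ofFinite _
  have := (chevRel C (ZMod 3)).rootPerm.finite
  let _ : Fintype (chevRel C (ZMod 3)).WQ := Fintype.ofFinite _
  rw [card_centralizer (chevRel C F) hC hker h2 ht, hd.evenPos_eq, mul_assoc]
  congr 1
  obtain ⟨q, hq⟩ : ∃ q, q = Fintype.card F := ⟨_, rfl⟩
  rw [← hq]
  have hq1 : 1 < q := hq ▸ Fintype.one_lt_card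
  have h3 := hd.poly (chevRel C (ZMod 3)) (q : ℤ)
  rw [← parStab_sum_eq (chevRel C F)] at h3
  have hcast : (((degs.map fun k => q ^ k - 1).prod : ℕ) : ℤ) = (degs.map fun k : ℕ => (q : ℤ) ^ k - 1).prod := by
    rw [Nat.cast_list_prod, List.map_map]
    refine congrArg _ (List.map_congr_left fun k _ => ?_)
    rw [Function.comp_apply, Nat.cast_sub (Nat.one_le_pow _ _ (by omega))]
    push_cast; ring
  have h4 : ((q : ℤ) - 1) = (((q - 1 : ℕ)) : ℤ) := by rw [Nat.cast_sub (by omega)]; simp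
  rw [← hcast, h4] at h3
  exact_mod_cast h3

include C in
/-- The classes of involutions from two certified parity functions. -/
theorem involution_classes {M U U' V V' : List (List ℤ)} {d : List ℕ} (hM : cmat D = M)
    (hsm : chkSmith D.rank M U U' V V' d = true) (hd : ∀ i : Fin D.rank, d.getD i 0 = 1) (hC : CartanOK D)
    {mk : List ℕ} (hmk : chkMasks D mk = true) {a b A B : ℕ} {da db : List ℕ} {wa wb : List (List ℕ)}
    (ha : ClassData D X M mk a A da wa) (hb : ClassData D X M mk b B db wb) (hAB : A ≠ B)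
    (hcov : chkCoverage D.rank mk a b wa wb = true) (hF : Odd (Fintype.card F)) :
    ∃ s t : ↥(D.group F), orderOf s = 2 ∧ orderOf t = 2 ∧ ¬ IsConj s t ∧
      (∀ u : ↥(D.group F), orderOf u = 2 → IsConj u s ∨ IsConj u t) ∧
      Nat.card (Subgroup.centralizer ({s} : Set ↥(D.group F))) =
        Fintype.card F ^ A * (da.map fun k => Fintype.card F ^ k - 1).prod ∧
      Nat.card (Subgroup.centralizer ({t} : Set ↥(D.group F))) =
        Fintype.card F ^ B * (db.map fun k => Fintype.card F ^ k - 1).prod := by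
  classical
  have hinj : ∀ (L : Type) (_ : Field L) (_ : Fintype L), TorusInj (chevRel C L) := fun L _ _ c hc =>
    CfsgLib.Known.ChevFixed.torusHom_injective_of_smith C hM hsm (fun i => by rw [hd i, Nat.gcd_one_right]) c hc
  have hkerF : TorusInj (chevRel C F) := fun c hc =>
    CfsgLib.Known.ChevFixed.torusHom_injective_of_smith C hM hsm (fun i => by rw [hd i, Nat.gcd_one_right]) c hc
  have h2 := two_ne_zero_of_odd hF
  obtain ⟨s, hs⟩ := exists_isT (chevRel C F) hC (vecOf D a)
  obtain ⟨t, ht⟩ := exists_isT (chevRel C F) hC (vecOf D b)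
  have es := centralizer_of_data C hC hkerF h2 ha hs
  have et := centralizer_of_data C hC hkerF h2 hb ht
  refine ⟨s, t, orderOf_isT _ h2 hs ha.ne_zero, orderOf_isT _ h2 ht hb.ne_zero, ?_, ?_, es, et⟩
  · intro h
    obtain ⟨c, rfl⟩ := isConj_iff.1 h
    refine pow_mul_prod_ne (Fintype.one_lt_card (α := F)) hAB ha.pos hb.pos ?_
    rw [← es, ← et]
    refine Nat.card_congr ((MulAut.conj c).toEquiv.subtypeEquiv fun x => ?_)
    rw [Subgroup.mem_centralizer_singleton_iff, Subgroup.mem_centralizer_singleton_iff]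
    show _ ↔ c * x * c⁻¹ * (c * s * c⁻¹) = c * s * c⁻¹ * (c * x * c⁻¹)
    rw [show c * x * c⁻¹ * (c * s * c⁻¹) = c * (x * s) * c⁻¹ by group,
      show c * s * c⁻¹ * (c * x * c⁻¹) = c * (s * x) * c⁻¹ by group, mul_left_inj, mul_right_inj]
  · intro u hu
    have huu : u * u = 1 := by rw [← pow_two, ← hu, pow_orderOf_eq_one]
    obtain ⟨v, h, hh, hconj⟩ := exists_conj_isT C hF hC hinj hkerF u huu
    have hu1 : u ≠ 1 := fun e => by rw [e, orderOf_one] at hu; omega
    have hv0 : v ≠ 0 := by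
      rintro rfl
      refine hu1 ?_
      have h1 : IsT (chevRel C F) (0 : Fin D.rank → ZMod 2) (1 : ↥(D.group F)) := by
        refine ⟨one_mem _, one_mul 1, ?_⟩
        simpa [par, sgn] using (chevRel C F).isMon_one
      rw [isT_unique _ hC h2 hkerF hh h1] at hconj
      exact isConj_one_left.1 hconj
    obtain ⟨n, hn, hn'⟩ := exists_mask D.rank fun j => if hj : j < D.rank then decide (v ⟨j, hj⟩ = 1) else false
    have hvn : vecOf D n = v := funext fun j => by
      simp only [vecOf, hn' j j.2, dif_pos j.2]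
      rcases (by decide : ∀ x : ZMod 2, x = 0 ∨ x = 1) (v j) with e | e <;> simp [e]
    simp only [chkCoverage, List.all_eq_true, List.mem_range, Bool.or_eq_true, nat_beq_iff, List.contains_iff_mem,
      List.mem_map] at hcov
    rcases hcov n hn with (h0 | ⟨w, hw, e⟩) | ⟨w, hw, e⟩
    · exact absurd (by rw [← hvn, h0]; funext j; simp [vecOf]) hv0
    · left
      have hok := ha.orbit
      simp only [chkOrbit, Bool.and_eq_true, List.all_eq_true, nat_blt_iff] at hok
      obtain ⟨g, hg, hsg⟩ := isConj_word (chevRel C F) hmk w (hok.1 w hw) a s hs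
      rw [← vecOf_mod, e, hvn] at hg
      rw [isT_unique _ hC h2 hkerF hg hh] at hsg
      exact hconj.trans hsg.symm
    · right
      have hok := hb.orbit
      simp only [chkOrbit, Bool.and_eq_true, List.all_eq_true, nat_blt_iff] at hok
      obtain ⟨g, hg, hsg⟩ := isConj_word (chevRel C F) hmk w (hok.1 w hw) b t ht
      rw [← vecOf_mod, e, hvn] at hg
      rw [isT_unique _ hC h2 hkerF hg hh] at hsg
      exact hconj.trans hsg.symm

end CfsgLib.Lie.OddInvolution
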