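import Cfsg.Agent.Lib.Lie.OddInvolution.SignTorus
import Cfsg.Agent.Lib.Lie.Twisted.Ord
import Cfsg.Agent.Lib.Known.RegularTorus

/-!
# The centraliser of a sign element of a split torus
-/

set_option autoImplicit false
set_option maxHeartbeats 800000

namespace CfsgLib.Lie.OddInvolution

open Cfsg.Lie (ChevalleyDatum)
open CfsgLib.Lie.Chev

variable {D : ChevalleyDatum} {X : Aux} {F : Type*} [Field F] {G : Type*} [Group G] (R : Rel D X F G)

/-- The number of positive even roots made negative by a permutation. -/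
def evenInv (X : Aux) (v : Fin D.rank → ZMod 2) (π : Equiv.Perm (Fin D.nroots)) : ℕ :=
  (Finset.univ.filter fun r : Fin D.nroots => half D ≤ (r : ℕ) ∧ ¬ half D ≤ (π r : ℕ) ∧ par X v r = 0).card

/-- The number of positive even roots. -/
def evenPos (D : ChevalleyDatum) (X : Aux) (v : Fin D.rank → ZMod 2) : ℕ :=
  (Finset.univ.filter fun r : Fin D.nroots => half D ≤ (r : ℕ) ∧ par X v r = 0).card

open Classical in
/-- The Weyl group elements preserving a parity function. -/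
noncomputable def parStab [Fintype R.WQ] (v : Fin D.rank → ZMod 2) : Finset R.WQ :=
  Finset.univ.filter fun w => ∀ r, par X v (R.qact w r) = par X v r

theorem card_fixed_US [Finite F] (h2 : (2 : F) ≠ 0) {v : Fin D.rank → ZMod 2} {t : G} (ht : IsT R v t) (w : R.WQ) :
    Nat.card {u : ↥(R.US (invSet (R.qact w))) // t * (u : G) * t⁻¹ = u} = Nat.card F ^ evenInv X v (R.qact w) := by
  classical
  obtain ⟨S, hS⟩ : ∃ S : Finset (Fin D.nroots), ↑S = invSet (R.qact w) :=
    ⟨(Set.toFinite (invSet (R.qact w))).toFinset, Set.Finite.coe_toFinset _⟩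
  obtain ⟨S', hS'⟩ : ∃ S', S' = S.filter fun r => par X v r = 0 := ⟨_, rfl⟩
  have hcard : evenInv X v (R.qact w) = S'.card := by
    refine congrArg Finset.card (Finset.ext fun r => ?_)
    rw [hS', Finset.mem_filter, Finset.mem_filter, ← Finset.mem_coe (s := S), hS]
    simp [invSet, and_assoc]
  have hm : ∀ r, r ∈ S' ↔ r ∈ S ∧ par X v r = 0 := fun r => hS' ▸ Finset.mem_filter
  have hn := R.cert.nroots_eq
  obtain ⟨ext', hext⟩ : ∃ e : (S' → F) → ℕ → F, ∀ t r, e t r =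
      if h : r < D.nroots then (if h' : (⟨r, h⟩ : Fin D.nroots) ∈ S' then t ⟨_, h'⟩ else 0) else 0 :=
    ⟨_, fun _ _ => rfl⟩
  obtain ⟨a', ha'⟩ : ∃ a' : ℕ → F, ∀ r : Fin D.nroots, a' r = sgn (par X v r) :=
    ⟨fun r => if h : r < D.nroots then sgn (par X v ⟨r, h⟩) else 0, fun r => dif_pos r.2⟩
  have hconj := fun s => CfsgLib.Known.RegularTorus.conj_oprod R ht.2.2 a' ha' s (half D) (half D) (by omega)
  have hmem : ∀ s : S' → F, R.oprod (half D) (half D) (ext' s) ∈ R.US (invSet (R.qact w)) := by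
    intro s
    unfold Rel.oprod
    refine list_prod_mem fun x hx => ?_
    obtain ⟨r, hr, rfl⟩ := List.mem_map.1 hx
    rw [hext]
    by_cases h : r < D.nroots
    · by_cases h' : (⟨r, h⟩ : Fin D.nroots) ∈ S'
      · refine R.xe_mem_US (r := ⟨r, h⟩) ?_ _
        rw [← hS]
        exact ((hm _).1 h').1
      · simp [h, h', R.xe_zero]
    · rw [R.xe_oob r _ h]; exact one_mem _
  have hfix : ∀ s : S' → F, t * R.oprod (half D) (half D) (ext' s) * t⁻¹ = R.oprod (half D) (half D) (ext' s) := by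
    intro s
    rw [hconj]
    refine R.oprod_congr fun r h1 h2 => ?_
    rw [hext]
    by_cases h : r < D.nroots
    · by_cases h' : (⟨r, h⟩ : Fin D.nroots) ∈ S'
      · rw [show a' r = sgn (par X v ⟨r, h⟩) from ha' ⟨r, h⟩, ((hm _).1 h').2]
        simp [sgn]
      · simp [h, h']
    · simp [h]
  let ψ : (S' → F) → {u : ↥(R.US (invSet (R.qact w))) // t * (u : G) * t⁻¹ = u} := fun s =>
    ⟨⟨_, hmem s⟩, hfix s⟩
  rw [hcard, ← Nat.card_eq_finsetCard S', ← Nat.card_fun]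
  refine (Nat.card_congr (Equiv.ofBijective ψ ⟨fun s s' e => ?_, fun u => ?_⟩)).symm
  · funext ⟨r, hr⟩
    have e' : R.oprod (half D) (half D) (ext' s) = R.oprod (half D) (half D) (ext' s') :=
      congrArg (fun x => ((x.1 : ↥(R.US (invSet (R.qact w)))) : G)) e
    have hr' : r ∈ invSet (R.qact w) := hS ▸ ((hm _).1 hr).1
    have := R.oprod_inj (half D) (half D) _ _ le_rfl (by omega) (congrArg R.θ e') r hr'.1 (by have := r.2; omega)
    simpa [hext, hr] using this
  · obtain ⟨⟨u, hu⟩, hu'⟩ := u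
    obtain ⟨f, hf⟩ := R.exists_oprod_supported w hS.symm (by rw [hS]; exact hu)
    refine ⟨fun r => f ⟨r.1, ((hm _).1 r.2).1⟩, Subtype.ext (Subtype.ext ?_)⟩
    show R.oprod _ _ _ = u
    rw [hf]
    refine R.oprod_congr fun r h1 h2r => ?_
    rw [hext]
    have hr : r < D.nroots := by omega
    rw [dif_pos hr, dif_pos hr]
    by_cases h : (⟨r, hr⟩ : Fin D.nroots) ∈ S
    · rw [dif_pos h]
      by_cases h' : par X v ⟨r, hr⟩ = 0
      · rw [dif_pos ((hm _).2 ⟨h, h'⟩)]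
      · rw [dif_neg (fun e => h' ((hm _).1 e).2)]
        simp only [hf] at hu'
        rw [hconj] at hu'
        have e := R.oprod_inj (half D) (half D) _ _ le_rfl (by omega) (congrArg R.θ hu') r h1 h2r
        simp only [dif_pos hr, dif_pos h] at e
        rw [show a' r = sgn (par X v ⟨r, hr⟩) from ha' ⟨r, hr⟩, sgn, if_neg h'] at e
        rcases mul_eq_zero.1 (show (2 : F) * f ⟨_, h⟩ = 0 by linear_combination -e) with h3 | h3
        · exact absurd h3 h2
        · exact h3.symm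
    · rw [dif_neg h, dif_neg (fun e => h ((hm _).1 e).1)]

theorem card_fixed_UP [Finite F] (h2 : (2 : F) ≠ 0) {v : Fin D.rank → ZMod 2} {t : G} (ht : IsT R v t) :
    Nat.card {u : ↥R.UP // t * (u : G) * t⁻¹ = u} = Nat.card F ^ evenPos D X v := by
  obtain ⟨g, hg⟩ := R.exists_opposite
  have hS : invSet (R.qact (R.qmk g)) = posSet D := Set.ext fun r => by
    rw [R.qact_qmk]
    exact ⟨fun h => h.1, fun h => ⟨h, fun h' => (hg r).1 h' h⟩⟩
  have e := card_fixed_US R h2 ht (R.qmk g)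
  have e' : evenInv X v (R.qact (R.qmk g)) = evenPos D X v := by
    refine congrArg Finset.card (Finset.filter_congr fun r _ => ⟨fun h => ⟨h.1, h.2.2⟩, fun h => ⟨h.1, ?_, h.2⟩⟩)
    rw [R.qact_qmk]
    exact fun h' => (hg r).1 h' h.1
  rw [hS, e'] at e
  exact e

/-- The order of the centraliser. -/
theorem card_centralizer [Fintype F] [Fintype R.WQ] (hC : CartanOK D) (hker : TorusInj R) (h2 : (2 : F) ≠ 0)
    {v : Fin D.rank → ZMod 2} {t : G} (ht : IsT R v t) :
    Nat.card (Subgroup.centralizer ({t} : Set G)) =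
      Fintype.card F ^ evenPos D X v * (Fintype.card F - 1) ^ D.rank *
        ∑ w ∈ parStab R v, Fintype.card F ^ evenInv X v (R.qact w) := by
  classical
  have := R.Finite_of_field
  have hrep : ∀ w ∈ parStab R v, Commute (R.rep w : G) t := by
    intro w hw
    have hw' := (Finset.mem_filter.1 hw).2
    have h := isT_conj R (R.rep w) ht
    have hv : (fun k => par X v ((R.nsPerm (R.rep w))⁻¹ (R.sroot k))) = v := funext fun k => by
      rw [R.nsPerm_rep, ← map_inv, ← hw', R.qact_inv_apply, par_sroot]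
    rw [hv] at h
    exact mul_inv_eq_iff_eq_mul.1 (isT_unique R hC h2 hker h ht)
  have hHS : ∀ h ∈ R.HS, Commute h t := fun h hh => R.HS_isMulCommutative hh ht.1
  let T : Type _ := Σ w : ↥(parStab R v),
    {u : ↥R.UP // t * (u : G) * t⁻¹ = u} × ↥R.HS × {u : ↥(R.US (invSet (R.qact (w : R.WQ)))) // t * (u : G) * t⁻¹ = u}
  let ψ : T → ↥(Subgroup.centralizer ({t} : Set G)) := fun x =>
    ⟨x.2.1.1.1 * x.2.2.1.1 * R.rep x.1.1 * x.2.2.2.1.1, Subgroup.mem_centralizer_singleton_iff.2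
      ((((show Commute t (x.2.1.1 : G) from mul_inv_eq_iff_eq_mul.1 x.2.1.2).symm.mul_left
        (hHS _ x.2.2.1.2)).mul_left (hrep _ x.1.2)).mul_left
        (show Commute t (x.2.2.2.1 : G) from mul_inv_eq_iff_eq_mul.1 x.2.2.2.2).symm).eq⟩
  have hψ : Function.Bijective ψ := by
    constructor
    · rintro ⟨⟨w, hw⟩, ⟨⟨a, ha⟩, ha'⟩, ⟨b, hb⟩, ⟨⟨c, hc⟩, hc'⟩⟩ ⟨⟨w', hw'⟩, ⟨⟨a₁, ha₁⟩, ha₁'⟩, ⟨b₁, hb₁⟩,
        ⟨⟨c₁, hc₁⟩, hc₁'⟩⟩ e
      have e' : a * b * R.rep w * c = a₁ * b₁ * R.rep w' * c₁ := congrArg Subtype.val e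
      have hB := mul_mem (R.UP_le_BS ha) (R.HS_le_BS hb)
      have hB₁ := mul_mem (R.UP_le_BS ha₁) (R.HS_le_BS hb₁)
      have h := R.bnu_weyl (n := R.rep w) (n' := R.rep w') hB hB₁ (R.US_mono (Rel.invSet_subset _) hc)
        (R.US_mono (Rel.invSet_subset _) hc₁) e'
      have hww : w = w' := by
        rw [← R.qmk_rep w, ← R.qmk_rep w']
        exact QuotientGroup.eq.2 (Subgroup.mem_subgroupOf.2 h)
      subst hww
      obtain ⟨e1, rfl⟩ := R.bnu_unique hB hB₁ (R.nsPerm_rep w ▸ hc) (R.nsPerm_rep w ▸ hc₁) e'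
      have e2 : a₁⁻¹ * a = b₁ * b⁻¹ := by
        rw [eq_mul_inv_iff_mul_eq, mul_assoc, e1, inv_mul_cancel_left]
      have e3 : a₁⁻¹ * a = 1 := (Subgroup.eq_bot_iff_forall _).1 R.UP_inf_HS _
        (Subgroup.mem_inf.2 ⟨mul_mem (inv_mem ha₁) ha, e2 ▸ mul_mem hb₁ (inv_mem hb)⟩)
      obtain rfl : a = a₁ := (inv_mul_eq_one.1 e3).symm
      obtain rfl : b = b₁ := mul_left_cancel e1
      rfl
    · rintro ⟨g, hg⟩
      obtain ⟨b, hb, n, c, hc, rfl⟩ := R.exists_bnu g
      obtain ⟨a, ha, h, hh, rfl⟩ := R.exists_of_mem_BS hb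
      obtain ⟨hat, hct, hnt⟩ := commute_factors R ht.1 ha hh n hc (Subgroup.mem_centralizer_singleton_iff.1 hg)
      have hw : R.qmk n ∈ parStab R v :=
        Finset.mem_filter.2 ⟨Finset.mem_univ _, fun r => by rw [R.qact_qmk]; exact parity_nsPerm R h2 ht.2.2 n hnt r⟩
      have hk : (n : G) * (R.rep (R.qmk n) : G)⁻¹ ∈ R.HS :=
        R.qmk_eq_one.1 (show R.qmk (n * (R.rep (R.qmk n))⁻¹) = 1 by rw [map_mul, map_inv, R.qmk_rep, mul_inv_cancel])
      refine ⟨⟨⟨R.qmk n, hw⟩, ⟨⟨a, ha⟩, hat⟩, ⟨_, mul_mem hh hk⟩, ⟨⟨c, hc⟩, hct⟩⟩, Subtype.ext ?_⟩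
      show a * (h * ((n : G) * (R.rep (R.qmk n) : G)⁻¹)) * R.rep (R.qmk n) * c = a * h * n * c
      group
  rw [← Nat.card_congr (Equiv.ofBijective ψ hψ)]
  have hH : Nat.card ↥R.HS = (Fintype.card F - 1) ^ D.rank := by
    rw [← Nat.card_congr (Equiv.ofBijective _ ⟨(injective_iff_map_eq_one _).2 hker, R.torusHom_surjective⟩),
      Nat.card_fun, Nat.card_units, Nat.card_eq_fintype_card (α := F), Nat.card_eq_fintype_card (α := Fin D.rank),
      Fintype.card_fin]
  show Nat.card (Σ w : ↥(parStab R v), _) = _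
  rw [Nat.card_sigma, Finset.mul_sum, ← Finset.sum_coe_sort (parStab R v)]
  refine Finset.sum_congr rfl fun w _ => ?_
  rw [Nat.card_prod, Nat.card_prod, card_fixed_UP R h2 ht, card_fixed_US R h2 ht, hH, Nat.card_eq_fintype_card (α := F)]
  ring

end CfsgLib.Lie.OddInvolution
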