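import Cfsg.Agent.Lib.Lie.OddInvolution.Tower
import Cfsg.Agent.Lib.Lie.Chev.Data.CertF4
import Cfsg.Agent.Lib.Lie.Rel.OrderData

/-!
# Tables for the even root subsystem of one class of sign elements in type F4

A packed table stores the image of the root `r` in the byte at position `r`.
-/

set_option autoImplicit false
set_option maxRecDepth 100000

namespace CfsgLib.Lie.OddInvolution.F4B

open CfsgLib.Lie.Chev

/-- The mask of the parity function. -/
def msk : ℕ := 4

/-- The even roots. -/
def evn : ℕ := 0x39870990e19c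

/-- The even positive roots. -/
def emn : ℕ := 0x398709000000

/-- Words of the generating reflections. -/
def gW : List (List ℕ) :=
  [[3],
  [1],
  [2, 1, 2, 3, 2, 1, 2],
  [0]]

/-- Tables of the generating reflections. -/
def gT : List ℕ :=
  [0x2e2f2d2c2b292a2827252623242221201e1f1c1d1b191a1718151614121310110f0e0d0b0c090a080705060403020001,
  0x2f2e2b2c2d2a292728242326252122201a191d1c141f1e181711101b131216150f0d0e0a090c0b070806050203040100,
  0x2a292d2c2b2f2e22212625242328270f161513121b111018171f1e141d1c1a192008070c0b0a090e0d01000403020605,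
  0x2f2e2d28201f1e2c2726251d1c1b0e2b2a292423221a19181716150d0c0b060504211413120a09080311100f07020100]

/-- All representatives, each as a generator times an earlier one. -/
def der : List (ℕ × ℕ × ℕ) :=
  [(0x2f2e2d2c2b2a292827262524232221201f1e1d1c1b1a191817161514131211100f0e0d0c0b0a09080706050403020100, 0, 0),
  (0x2f2e2d28201f1e2c2726251d1c1b0e2b2a292423221a19181716150d0c0b060504211413120a09080311100f07020100, 3, 0),
  (0x2a292d2c2b2f2e22212625242328270f161513121b111018171f1e141d1c1a192008070c0b0a090e0d01000403020605, 2, 0),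
  (0x1f1e2d28202f2e1b0e26251d1c2c270416150c0b22060518172a290d24231a192b080313120a09211401000f07021110, 3, 2),
  (0x16152d220f2a291b08262513122c21041f1e0c0b28010018172f2e07242311102b0e031d1c0a0927140605200d021a19, 2, 3),
  (0x2f2e2b2c2d2a292728242326252122201a191d1c141f1e181711101b131216150f0d0e0a090c0b070806050203040100, 1, 0),
  (0x2f2e20282d1f1e272c1d1c26250e1b2b1a1924230d2a2918170605220c0b16150414210a0913120308111002070f0100, 3, 5),
  (0x2a290f222d1615212c13122625081b2b11102423072f2e18170100280c0b1f1e0414270a091d1c030e1a19020d200605, 2, 6),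
  (0x1f1e041b2d16150e280c0b262508222006051d1c032f2e181701002c13122a290f0d270a09242307211a1902142b1110, 3, 7),
  (0x1a1902142b11100d270a09242307212006051d1c032f2e181701002c13122a290f0e280c0b262508221f1e041b2d1615, 1, 8),
  (0x2e2f2d2c2b292a2827252623242221201e1f1c1d1b191a1718151614121310110f0e0d0b0c090a080705060403020001, 0, 0)]

/-- The levels, with the indices of their representatives. -/
def stI : List (ℕ × List ℕ) :=
  [(0x200000000, [0, 1]),
  (0x88300000000, [0, 2, 3, 4]),
  (0x398708000000, [0, 5, 6, 7, 8, 9]),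
  (0x398709000000, [0, 10])]

/-- The levels, with their representatives. -/
def st : List (ℕ × List ℕ) := stI.map fun p => (p.1, p.2.map fun i => (der.getD i (0, 0, 0)).1)

/-- Words reaching the whole orbit. -/
def ws : List (List ℕ) :=
  [[],
  [2],
  [2, 1],
  [2, 3],
  [2, 1, 0],
  [2, 1, 2],
  [2, 1, 3],
  [2, 1, 0, 2],
  [2, 1, 0, 3],
  [2, 1, 0, 2, 1],
  [2, 1, 0, 2, 1, 2],
  [2, 1, 0, 2, 1, 2, 3]]

/-- The degrees of the subsystem. -/
def degs : List ℕ := [2, 2, 4, 6]

theorem okMask : ∀ r : Fin Cfsg.Lie.chevF4.nroots,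
    (Nat.testBit evn r = true ↔ par auxF4 (vecOf Cfsg.Lie.chevF4 msk) r = 0) ∧
      (Nat.testBit emn r = true ↔ half Cfsg.Lie.chevF4 ≤ (r : ℕ) ∧ par auxF4 (vecOf Cfsg.Lie.chevF4 msk) r = 0) := by
  decide +kernel

theorem okPos : evenPos Cfsg.Lie.chevF4 auxF4 (vecOf Cfsg.Lie.chevF4 msk) = 10 := by decide +kernel

theorem okOrbit : chkOrbit Cfsg.Lie.chevF4.rank [2, 1, 10, 4] msk ws = true := by decide +kernel

theorem okGens : chkGens Cfsg.Lie.chevF4 auxF4 evn gW gT = true := by decide +kernel

theorem okDer : chkDer Cfsg.Lie.chevF4.nroots gT [] der = true := by decide +kernel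

theorem okSub : (st.all fun p => p.2.all fun T => (der.map Prod.fst).contains T) = true := by decide +kernel

theorem okStages : chkStages Cfsg.Lie.chevF4.nroots (half Cfsg.Lie.chevF4) emn 0 st = true := by decide +kernel

theorem okCard : ((chainCounts cartF4 Cfsg.Lie.chevF4.rank (half Cfsg.Lie.chevF4) []
    (List.range Cfsg.Lie.chevF4.rank).reverse).map List.sum).prod =
      ws.length * (st.map fun p => p.2.length).prod := by decide +kernel

theorem okPoly : chkTowerPoly Cfsg.Lie.chevF4.rank Cfsg.Lie.chevF4.nroots (half Cfsg.Lie.chevF4) emn st degs = true := by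
  decide +kernel


end CfsgLib.Lie.OddInvolution.F4B
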