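import Cfsg.Agent.Lib.Lie.OddInvolution.Assembly
import Cfsg.Agent.Lib.Lie.OddInvolution.DataF4A
import Cfsg.Agent.Lib.Lie.OddInvolution.DataF4B

/-!
# Involutions of type F4 in odd characteristic
-/

set_option autoImplicit false

namespace CfsgLib.Lie.OddInvolution.F4

open CfsgLib.Lie.Chev

/-- The masks of the simple reflections. -/
def mk : List ℕ := [2, 1, 10, 4]

theorem okMasks : chkMasks Cfsg.Lie.chevF4 mk = true := by decide +kernel

theorem cartanOK : CartanOK Cfsg.Lie.chevF4 := ⟨by decide +kernel, by decide +kernel⟩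

theorem okCoverage : chkCoverage Cfsg.Lie.chevF4.rank mk F4A.msk F4B.msk F4A.ws F4B.ws = true := by decide +kernel

theorem classDataA : ClassData Cfsg.Lie.chevF4 auxF4 cartF4 mk F4A.msk 16 F4A.degs F4A.ws where
  ne_zero := by decide +kernel
  pos := by decide
  evenPos_eq := F4A.okPos
  orbit := F4A.okOrbit
  poly := fun R _ q => parStab_poly R cmat_F4 F4A.okMask okMasks F4A.okOrbit F4A.okGens F4A.okDer F4A.okSub
    F4A.okStages F4A.okCard F4A.okPoly q

theorem classDataB : ClassData Cfsg.Lie.chevF4 auxF4 cartF4 mk F4B.msk 10 F4B.degs F4B.ws where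
  ne_zero := by decide +kernel
  pos := by decide
  evenPos_eq := F4B.okPos
  orbit := F4B.okOrbit
  poly := fun R _ q => parStab_poly R cmat_F4 F4B.okMask okMasks F4B.okOrbit F4B.okGens F4B.okDer F4B.okSub
    F4B.okStages F4B.okCard F4B.okPoly q

/-- The two classes of involutions and the orders of their centralisers. -/
theorem classes {F : Type*} [Field F] [Fintype F] (hF : Odd (Fintype.card F)) :
    ∃ s t : ↥(Cfsg.Lie.chevF4.group F), orderOf s = 2 ∧ orderOf t = 2 ∧ ¬ IsConj s t ∧
      (∀ u : ↥(Cfsg.Lie.chevF4.group F), orderOf u = 2 → IsConj u s ∨ IsConj u t) ∧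
      Nat.card (Subgroup.centralizer ({s} : Set ↥(Cfsg.Lie.chevF4.group F))) =
        Fintype.card F ^ 16 * (([2, 4, 6, 8] : List ℕ).map fun k => Fintype.card F ^ k - 1).prod ∧
      Nat.card (Subgroup.centralizer ({t} : Set ↥(Cfsg.Lie.chevF4.group F))) =
        Fintype.card F ^ 10 * (([2, 2, 4, 6] : List ℕ).map fun k => Fintype.card F ^ k - 1).prod :=
  involution_classes certF4 cmat_F4 smithF4 (by decide) cartanOK okMasks classDataA classDataB (by decide)
    okCoverage hF

end CfsgLib.Lie.OddInvolution.F4
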