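import Cfsg.Agent.Lib.Lie.OddInvolution.Descent
import Cfsg.Agent.Lib.Known.TrialityTorus.Tools

/-!
# Involutions of a maximal split torus, indexed by parity functions on the simple roots
-/

set_option autoImplicit false

namespace CfsgLib.Lie.OddInvolution

open Cfsg.Lie (ChevalleyDatum)
open CfsgLib.Lie.Chev

variable {D : ChevalleyDatum} {X : Aux} {F : Type*} [Field F] {G : Type*} [Group G] (R : Rel D X F G)

/-- The parity of a root, from the parities of the simple roots. -/
def par (X : Aux) (v : Fin D.rank → ZMod 2) (r : Fin D.nroots) : ZMod 2 :=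
  ∑ j : Fin D.rank, (X.coef j (r : ℕ) : ZMod 2) * v j

theorem par_sroot (v : Fin D.rank → ZMod 2) (k : Fin D.rank) : par X v (R.sroot k) = v k := by
  unfold par
  rw [Finset.sum_eq_single k]
  · rw [R.coef_sroot, if_pos rfl, Int.cast_one, one_mul]
  · intro j _ hj; rw [R.coef_sroot, if_neg hj, Int.cast_zero, zero_mul]
  · simp

theorem plin_par (v : Fin D.rank → ZMod 2) : PLin R (par X v) := fun r => by
  simp only [par_sroot R v]; rfl

/-- An element of the torus acting on every root by the sign of its parity. -/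
def IsT (v : Fin D.rank → ZMod 2) (g : G) : Prop :=
  g ∈ R.HS ∧ g * g = 1 ∧ R.IsMon g 1 fun r => sgn (par X v r)

/-- The unit of a parity. -/
def sgnU (e : ZMod 2) : Fˣ := if e = 0 then 1 else -1

theorem sgnU_val (e : ZMod 2) : ((sgnU e : Fˣ) : F) = sgn e := by
  rcases (by decide : ∀ x : ZMod 2, x = 0 ∨ x = 1) e with rfl | rfl <;> simp [sgnU, sgn]

theorem sgn_add (a b : ZMod 2) : (sgn (a + b) : F) = sgn a * sgn b := by
  rcases (by decide : ∀ x : ZMod 2, x = 0 ∨ x = 1) a with rfl | rfl <;>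
    rcases (by decide : ∀ x : ZMod 2, x = 0 ∨ x = 1) b with rfl | rfl <;>
      simp [sgn, show (1 : ZMod 2) + 1 = 0 from by decide]

theorem sgn_sum {ι : Type*} (s : Finset ι) (f : ι → ZMod 2) : (sgn (∑ i ∈ s, f i) : F) = ∏ i ∈ s, sgn (f i) := by
  classical
  induction s using Finset.induction_on with
  | empty => simp [sgn]
  | insert i s hi ih => rw [Finset.sum_insert hi, Finset.prod_insert hi, sgn_add, ih]

theorem sgn_zpow (e : ZMod 2) (m : ℤ) : ((sgnU e : Fˣ) ^ m : Fˣ) = (sgnU ((m : ZMod 2) * e) : Fˣ) := by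
  rcases (by decide : ∀ x : ZMod 2, x = 0 ∨ x = 1) e with rfl | rfl
  · simp [sgnU]
  · rcases Int.even_or_odd m with h | h
    · simp [sgnU, h.neg_one_zpow, (ZMod.intCast_eq_zero_iff_even).2 h]
    · simp [sgnU, h.neg_one_zpow, (ZMod.intCast_eq_one_iff_odd).2 h]

/-- The parities of the simple roots on the torus element with given sign coordinates. -/
def mc (D : ChevalleyDatum) (e : Fin D.rank → ZMod 2) (k : Fin D.rank) : ZMod 2 :=
  ∑ i : Fin D.rank, (D.cartan i (D.simple k) : ZMod 2) * e i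

theorem mc_bijective (hC : CartanOK D) : Function.Bijective (mc D) := by
  refine Finite.injective_iff_bijective.1 fun a b h => ?_
  by_contra hne
  obtain ⟨j, hj⟩ := Function.ne_iff.1 hne
  obtain ⟨k, hk⟩ := hC.det (fun j => decide (a j ≠ b j)) ⟨j, by simp [hj]⟩
  refine hk ?_
  have := congrFun h k
  simp only [mc] at this
  rw [← sub_eq_zero, ← Finset.sum_sub_distrib] at this
  refine Eq.trans (Finset.sum_congr rfl fun i _ => ?_) this
  by_cases hi : a i = b i
  · simp [hi]
  · have : a i - b i = 1 := ((by decide : ∀ x : ZMod 2, x = 0 ∨ x = 1) _).resolve_left (sub_ne_zero.2 hi)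
    rw [← mul_sub, this, mul_one, if_pos (by simp [hi])]

/-- The torus element with given sign coordinates. -/
def tS (e : Fin D.rank → ZMod 2) : G := (R.torusHom fun i => sgnU (e i) : R.HS)

theorem isT_tS (e : Fin D.rank → ZMod 2) : IsT R (mc D e) (tS R e) := by
  refine ⟨SetLike.coe_mem _, ?_, ?_⟩
  · show (R.torusHom _ : G) * (R.torusHom _ : G) = 1
    rw [← Subgroup.coe_mul, ← map_mul]
    refine ((congrArg (fun c => ((R.torusHom c : R.HS) : G)) (funext fun i => ?_)).trans
      (by rw [map_one, Subgroup.coe_one]) : ((R.torusHom ((fun i => sgnU (e i)) * fun i => sgnU (e i)) : R.HS) : G) = 1)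
    show sgnU (e i) * sgnU (e i) = (1 : Fin D.rank → Fˣ) i
    rcases (by decide : ∀ x : ZMod 2, x = 0 ∨ x = 1) (e i) with h | h <;> simp [h, sgnU]
  · refine (congrArg (R.IsMon _ 1) (funext fun r => ?_)).mp
      (CfsgLib.Known.TrialityTorus.isMon_torusHom R fun i => sgnU (e i))
    simp only [sgn_zpow, Units.coe_prod, sgnU_val]
    rw [← sgn_sum]
    refine congrArg sgn ?_
    simp only [par, mc, Finset.mul_sum]
    rw [Finset.sum_comm]
    refine Finset.sum_congr rfl fun i _ => ?_
    rw [R.cert.cartan_eq r.2 i.2, Finset.sum_range, Int.cast_sum, Finset.sum_mul]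
    exact Finset.sum_congr rfl fun j _ => by rw [Int.cast_mul, mul_assoc]

theorem exists_isT (hC : CartanOK D) (v : Fin D.rank → ZMod 2) : ∃ g, IsT R v g := by
  obtain ⟨e, rfl⟩ := (mc_bijective hC).2 v
  exact ⟨_, isT_tS R e⟩

/-- Injectivity of the torus map. -/
def TorusInj : Prop := ∀ c : Fin D.rank → Fˣ, R.torusHom c = 1 → c = 1

/-- An element of order at most two of the torus has sign coordinates. -/
theorem exists_tS (hker : TorusInj R) {g : G} (hg : g ∈ R.HS) (hgg : g * g = 1) : ∃ e, g = tS R e := by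
  classical
  obtain ⟨c, hc⟩ := R.torusHom_surjective ⟨g, hg⟩
  have hcc : c * c = 1 := hker _ (Subtype.ext (by rw [map_mul, hc]; exact hgg))
  refine ⟨fun i => if (c i : F) = 1 then 0 else 1, ?_⟩
  show g = ((R.torusHom fun i => sgnU (if (c i : F) = 1 then 0 else 1) : R.HS) : G)
  rw [show (fun i => sgnU (if (c i : F) = 1 then (0 : ZMod 2) else 1) : Fin D.rank → Fˣ) = c from funext fun i => ?_,
    hc]
  rcases mul_self_eq_one_iff.1 (congrArg Units.val (congrFun hcc i)) with h | h
  · rw [if_pos h, sgnU, if_pos rfl]; exact Units.ext h.symm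
  · by_cases h1 : (c i : F) = 1
    · rw [if_pos h1, sgnU, if_pos rfl]; exact Units.ext h1.symm
    · rw [if_neg h1, sgnU, if_neg one_ne_zero]; exact Units.ext (by rw [Units.val_neg, Units.val_one, h])

theorem exists_isT_of_mem (hker : TorusInj R) {g : G} (hg : g ∈ R.HS) (hgg : g * g = 1) : ∃ v, IsT R v g := by
  obtain ⟨e, rfl⟩ := exists_tS R hker hg hgg
  exact ⟨_, isT_tS R e⟩

theorem isT_parity (h2 : (2 : F) ≠ 0) {v w : Fin D.rank → ZMod 2} {g : G} (hv : IsT R v g) (hw : IsT R w g) :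
    v = w := by
  funext k
  have := congrFun (R.isMon_unique hv.2.2 hw.2.2).2 (R.sroot k)
  simpa only [par_sroot] using sgn_inj h2 this

theorem isT_unique (hC : CartanOK D) (h2 : (2 : F) ≠ 0) (hker : TorusInj R) {v : Fin D.rank → ZMod 2} {g g' : G}
    (hv : IsT R v g) (hv' : IsT R v g') : g = g' := by
  obtain ⟨e, rfl⟩ := exists_tS R hker hv.1 hv.2.1
  obtain ⟨e', rfl⟩ := exists_tS R hker hv'.1 hv'.2.1
  rw [(mc_bijective hC).1 ((isT_parity R h2 (isT_tS R e) hv).trans (isT_parity R h2 (isT_tS R e') hv').symm)]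

theorem isT_ne_one (h2 : (2 : F) ≠ 0) {v : Fin D.rank → ZMod 2} {g : G} (hv : IsT R v g) (h : v ≠ 0) : g ≠ 1 := by
  rintro rfl
  obtain ⟨k, hk⟩ := Function.ne_iff.1 h
  have := congrFun (R.isMon_unique R.isMon_one hv.2.2).2 (R.sroot k)
  rw [par_sroot] at this
  exact hk (sgn_inj h2 (this.symm.trans (by simp [sgn])))

theorem orderOf_isT (h2 : (2 : F) ≠ 0) {v : Fin D.rank → ZMod 2} {g : G} (hv : IsT R v g) (h : v ≠ 0) :
    orderOf g = 2 :=
  orderOf_eq_prime (by rw [pow_two]; exact hv.2.1) (isT_ne_one R h2 hv h)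

/-- Conjugation by a monomial element permutes the parity functions. -/
theorem isT_conj (n : R.NS) {v : Fin D.rank → ZMod 2} {g : G} (hv : IsT R v g) :
    IsT R (fun k => par X v ((R.nsPerm n)⁻¹ (R.sroot k))) ((n : G) * g * (n : G)⁻¹) := by
  obtain ⟨b, hb⟩ := R.isMon_nsPerm n
  refine ⟨R.HS_conj n.2 hv.1, ?_, ?_⟩
  · calc _ = (n : G) * (g * g) * (n : G)⁻¹ := by group
      _ = 1 := by rw [hv.2.1, mul_one, mul_inv_cancel]
  · have hlin : R.IsLin (R.nsPerm n)⁻¹ := by rw [← map_inv]; exact R.isLin_nsPerm n⁻¹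
    have hp : ∀ r, par X (fun k => par X v ((R.nsPerm n)⁻¹ (R.sroot k))) r = par X v ((R.nsPerm n)⁻¹ r) :=
      fun r => (plin_comp R (plin_par R v) hlin r).symm
    refine (congrArg (R.IsMon _ 1) (funext fun r => ?_)).mp (isMon_conj R hb hv.2.2)
    rw [hp]

/-- The action of a simple reflection on parity functions. -/
def stepV (D : ChevalleyDatum) (k : Fin D.rank) (v : Fin D.rank → ZMod 2) (j : Fin D.rank) : ZMod 2 :=
  v j - (D.cartan k (D.simple j) : ZMod 2) * v k

theorem par_wperm (v : Fin D.rank → ZMod 2) (k j : Fin D.rank) :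
    par X v ((R.wperm k)⁻¹ (R.sroot j)) = stepV D k v j := by
  rw [show (R.wperm k)⁻¹ = R.wperm k from inv_eq_of_mul_eq_one_right (R.wperm_mul_self k),
    plin_wperm R (plin_par R v), par_sroot, par_sroot]
  rfl

theorem isT_step {k : Fin D.rank} {v : Fin D.rank → ZMod 2} {g : G} (hv : IsT R v g) :
    IsT R (stepV D k v) (R.nS k * g * (R.nS k : G)⁻¹) := by
  have h := isT_conj R (R.nS k) hv
  rwa [R.nsPerm_nS, show (fun j => par X v ((R.wperm k)⁻¹ (R.sroot j))) = stepV D k v from
    funext (par_wperm R v k)] at h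

end CfsgLib.Lie.OddInvolution
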